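import Groth.Agent.Lib.Growth13.Bound
import Groth.Agent.Lib.CurveAmple18.EulerTensor
import Groth.Agent.Lib.CurveCM.Span
import Groth.Agent.Lib.CBC10.Near
import Groth.Agent.Lib.Snapper.Positive
import Groth.Prelude.Def_W4c5asymptcohfnACF

/-!
# Comparison of the cohomology of twists of generically isomorphic modules
-/

set_option autoImplicit false
set_option linter.style.haveILetI false
set_option linter.unusedSectionVars false
set_option backward.isDefEq.respectTransparency false
set_option backward.isDefEq.respectTransparency.types false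

universe u

open CategoryTheory CategoryTheory.Limits AlgebraicGeometry TopologicalSpace

attribute [local instance] Abelian.hasFiniteBiproducts

namespace Groth.Agent.AsympCoh18

open Groth.Agent Growth13 CohFound

variable {k : Type u} [Field k] {X : Scheme.{u}} [X.Over (Spec (CommRingCat.of k))]
  [IsProper (X ↘ Spec (CommRingCat.of k))] {r : ℕ} {L : Fin r → X.Modules} {F : (Fin r → ℤ) → X.Modules}

theorem dim_support_le {n : ℕ} (hn : topologicalKrullDim X ≤ (n : WithBot ℕ∞)) (G : X.Modules) :
    topologicalKrullDim (CohB1.support G) ≤ (n : WithBot ℕ∞) :=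
  le_trans Topology.IsInducing.subtypeVal.topologicalKrullDim_le hn

variable (k) in
/-- A bound by `C (|a| + 1) ^ (n - 1)`, with `C = 0` for `n = 0`, of the difference of the cohomology of the
twists of two modules. -/
def Close (F : (Fin r → ℤ) → X.Modules) (n : ℕ) (G G' : X.Modules) : Prop :=
  ∃ C : ℕ, (n = 0 → C = 0) ∧ ∀ i a,
    hdim k (CohB1.tensorMod G (F a)) i ≤ hdim k (CohB1.tensorMod G' (F a)) i + C * (wt a + 1) ^ (n - 1) ∧
    hdim k (CohB1.tensorMod G' (F a)) i ≤ hdim k (CohB1.tensorMod G (F a)) i + C * (wt a + 1) ^ (n - 1)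

variable (hL : ∀ j, PicF.IsInvertible (L j)) (hF : ∀ a, PicF.IsInvertible (F a))
  (hstep : ∀ a j, Nonempty (F (a + Pi.single j 1) ≅ CohB1.tensorMod (F a) (L j)))
  {n : ℕ} (hn : topologicalKrullDim X ≤ (n : WithBot ℕ∞))

include hL hF hstep in
/-- A module with small support. -/
theorem exists_small {G : X.Modules} (hG : Coh.IsCoh G)
    (hd : topologicalKrullDim (CohB1.support G) < (n : WithBot ℕ∞)) :
    ∃ B : ℕ, (n = 0 → B = 0) ∧ ∀ i a, hdim k (CohB1.tensorMod G (F a)) i ≤ B * (wt a + 1) ^ (n - 1) := by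
  rcases n with _ | e
  · have hempty : CohB1.support G = ∅ := by
      by_contra hne
      obtain ⟨x, hx⟩ := Set.nonempty_iff_ne_empty.2 hne
      haveI : Nonempty (IrreducibleCloseds (CohB1.support G)) :=
        ⟨⟨closure {⟨x, hx⟩}, isIrreducible_singleton.closure, isClosed_closure⟩⟩
      have : (0 : WithBot ℕ∞) ≤ topologicalKrullDim (CohB1.support G) := Order.krullDim_nonneg
      exact absurd (this.trans_lt hd) (by simp)
    exact ⟨0, fun _ => rfl, fun i a => (hdim_of_support_empty k (Set.subset_empty_iff.1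
      ((Snapper.support_tensor_subset G (F a)).trans hempty.le)) i).trans_le (Nat.zero_le _)⟩
  · obtain ⟨B, hB⟩ := bdd k hL hF hstep e G hG (Snapper.le_of_lt_natCast_succ hd)
    exact ⟨B, fun h => absurd h (Nat.succ_ne_zero _), fun i a => hB i a⟩

include hL hF hstep in
/-- A short exact sequence with small cokernel term. -/
theorem close_of_right_small {S : ShortComplex X.Modules} (hS : S.ShortExact) (h1 : Coh.IsCoh S.X₁)
    (h2 : Coh.IsCoh S.X₂) (h3 : Coh.IsCoh S.X₃)
    (hd : topologicalKrullDim (CohB1.support S.X₃) < (n : WithBot ℕ∞)) : Close k F n S.X₁ S.X₂ := by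
  obtain ⟨B, hB0, hB⟩ := exists_small (k := k) hL hF hstep h3 hd
  exact ⟨B, hB0, fun i a => ⟨(hdim_left_tensor_le hS h1 h2 h3 (hF a) i).trans (Nat.add_le_add_left (hB _ a) _),
    (hdim_mid_tensor_le hS h1 h2 h3 (hF a) i).trans (Nat.add_le_add_left (hB _ a) _)⟩⟩

include hL hF hstep in
/-- A short exact sequence with small kernel term. -/
theorem close_of_left_small {S : ShortComplex X.Modules} (hS : S.ShortExact) (h1 : Coh.IsCoh S.X₁)
    (h2 : Coh.IsCoh S.X₂) (h3 : Coh.IsCoh S.X₃)
    (hd : topologicalKrullDim (CohB1.support S.X₁) < (n : WithBot ℕ∞)) : Close k F n S.X₂ S.X₃ := by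
  obtain ⟨B, hB0, hB⟩ := exists_small (k := k) hL hF hstep h1 hd
  exact ⟨B, hB0, fun i a => ⟨((hdim_mid_tensor_le hS h1 h2 h3 (hF a) i).trans
      (Nat.add_le_add_right (hB _ a) _)).trans_eq (Nat.add_comm _ _),
    (hdim_right_tensor_le hS h1 h2 h3 (hF a) i).trans (Nat.add_le_add_left (hB _ a) _)⟩⟩

include hn in
/-- A closed subset missing the generic point has smaller dimension. -/
theorem dim_lt [IsIntegral X] {C : Set X} (hC : IsClosed C) (hη : genericPoint X ∉ C) :
    topologicalKrullDim C < (n : WithBot ℕ∞) := by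
  have hsub : C ⊆ closure {genericPoint X} := by
    rw [(genericPoint_spec X).def]; exact Set.subset_univ _
  rcases n with _ | e
  · have := Snapper.eq_empty_of_notMem hC hsub hη
      (le_trans Topology.IsInducing.subtypeVal.topologicalKrullDim_le (by simpa using hn))
    subst this
    rw [Snapper.dim_empty]
    exact WithBot.bot_lt_coe _
  · exact (Snapper.dim_le_of_notMem hC hsub hη
      (le_trans Topology.IsInducing.subtypeVal.topologicalKrullDim_le hn)).trans_lt
      (by exact_mod_cast Nat.lt_succ_self e)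

include hL hF hstep hn in
/-- Generically isomorphic modules. -/
theorem close_of_generic_iso [IsIntegral X] {G G' : X.Modules} (hG : Coh.IsCoh G) (hG' : Coh.IsCoh G')
    {U : X.Opens} (hU : IsAffineOpen U) (hηU : genericPoint X ∈ U) (e : G'.restrict U.ι ≅ G.restrict U.ι) :
    Close k F n G G' := by
  haveI : IsNoetherian X := CohFound.isNoetherian_of_isProper (X ↘ (Spec (CommRingCat.of k)))
  have hs : ∀ M : X.Modules, CohB1.support M ⊆ closure {genericPoint X} := fun M => by
    rw [(genericPoint_spec X).def]; exact Set.subset_univ _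
  obtain ⟨W, φ, ψ, hW, k1, c1, k2, c2⟩ :=
    Snapper.exists_zigzag (CurveAmple18.isSeparated k X) hG hG' (hs G) (hs G') hU hηU e
  have small : ∀ K : X.Modules, Coh.IsCoh K → CohB1.support K ⊆ closure {genericPoint X} \ (U : Set X) →
      ∃ B : ℕ, (n = 0 → B = 0) ∧ ∀ i a, hdim k (CohB1.tensorMod K (F a)) i ≤ B * (wt a + 1) ^ (n - 1) :=
    fun K hK hs' => exists_small hL hF hstep hK (lt_of_le_of_lt
      (Snapper.dim_le_of_subset hs' le_rfl) (dim_lt hn (isClosed_closure.sdiff U.isOpen) fun h => h.2 hηU))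
  obtain ⟨B1, z1, hB1⟩ := small _ (CurveCoh17.isCoh_kernel hW hG.1 φ) k1
  obtain ⟨B2, z2, hB2⟩ := small _ (M1.isCoh_cokernel hW.1 hG φ) c1
  obtain ⟨B3, z3, hB3⟩ := small _ (CurveCoh17.isCoh_kernel hW hG'.1 ψ) k2
  obtain ⟨B4, z4, hB4⟩ := small _ (M1.isCoh_cokernel hW.1 hG' ψ) c2
  refine ⟨2 * (B1 + B2) + 2 * (B3 + B4), fun h => by simp [z1 h, z2 h, z3 h, z4 h], fun i a => ?_⟩
  have h1 := hdim_tensor_hom (k := k) φ hW hG (hF a) (B := (B1 + B2) * (wt a + 1) ^ (n - 1))
    (fun m => (hB1 m a).trans (Nat.mul_le_mul_right _ (Nat.le_add_right _ _)))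
    (fun m => (hB2 m a).trans (Nat.mul_le_mul_right _ (Nat.le_add_left _ _))) i
  have h2 := hdim_tensor_hom (k := k) ψ hW hG' (hF a) (B := (B3 + B4) * (wt a + 1) ^ (n - 1))
    (fun m => (hB3 m a).trans (Nat.mul_le_mul_right _ (Nat.le_add_right _ _)))
    (fun m => (hB4 m a).trans (Nat.mul_le_mul_right _ (Nat.le_add_left _ _))) i
  have h3 : (2 * (B1 + B2) + 2 * (B3 + B4)) * (wt a + 1) ^ (n - 1) =
      2 * ((B1 + B2) * (wt a + 1) ^ (n - 1)) + 2 * ((B3 + B4) * (wt a + 1) ^ (n - 1)) := by ring
  constructor <;> omega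

include hL hF hstep hn in
/-- An invertible module against the structure sheaf. -/
theorem close_invertible [IsIntegral X] {N : X.Modules} (hN : PicF.IsInvertible N) :
    Close k F n (Coh.structureModule X) N := by
  obtain ⟨V, hηV, ⟨eV⟩⟩ := hN (genericPoint X)
  obtain ⟨U, hU, hηU, hUV⟩ := exists_isAffineOpen_mem_and_subset (U := V) hηV
  obtain ⟨eU⟩ := M2.nonempty_trivial_mono hUV eV
  exact close_of_generic_iso hL hF hstep hn (M1.isCoh_structureModule X) (Snapper.isCoh_of_isInvertible hN)
    hU hηU (eU ≪≫ (Scheme.Modules.restrictUnitIso U.ι).symm)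

include hL hF hstep hn in
/-- A coherent module against the free module of its generic rank. -/
theorem close_free [IsIntegral X] {G : X.Modules} (hG : Coh.IsCoh G) :
    Close k F n G (FlatMod.freeMod X
      (Module.finrank (X.presheaf.stalk (genericPoint X)) (G.presheaf.stalk (genericPoint X)))) := by
  haveI : IsNoetherian X := CohFound.isNoetherian_of_isProper (X ↘ (Spec (CommRingCat.of k)))
  obtain ⟨U, hU, hη, ⟨α⟩⟩ := CurveAmple18.exists_affine_generic_free hG
  exact close_of_generic_iso hL hF hstep hn hG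
    (CurveCoh17.isCoh_of_ofRank (M2.isFinLocFreeOfRank_freeMod X _))
    hU hη (M2.freeModRestrictIso U.ι _ ≪≫ α)

/-- Cohomology of a finite sum of copies. -/
theorem hdim_freeMod_tensor {N : X.Modules} (hN : Coh.IsCoh N) (m i : ℕ) :
    hdim k (CohB1.tensorMod (FlatMod.freeMod X m) N) i = m * hdim k N i := by
  haveI := finite_HH_of_isProper (A := k) N hN i
  rw [hdim_iso k (M2.freeModTensorIso X m N) i]
  open CurveCoh17 in
  let G : Fin m → X.Modules := fun _ => N
  let e : (⨁ G) ≅ ∐ G := biproduct.isoCoproduct G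
  let a : Coh.HH X (⨁ G) i ≃ₗ[k] (Fin m → Coh.HH X N i) :=
    { toFun := fun x q => CurveCoh17.hmap k (biproduct.π G q) i x
      map_add' := fun x y => funext fun q => map_add _ x y
      map_smul' := fun c x => funext fun q => map_smul _ c x
      invFun := fun y => ∑ q, CurveCoh17.hmap k (biproduct.ι G q) i (y q)
      left_inv := fun x => by
        show ∑ q, CurveCoh17.hmap k (biproduct.ι G q) i (CurveCoh17.hmap k (biproduct.π G q) i x) = x
        conv_rhs => rw [← CurveCoh17.hmap_id k (⨁ G) i x, ← biproduct.total, CurveCM.hmap_sum]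
        exact Finset.sum_congr rfl fun q _ => (CurveCoh17.hmap_comp k _ _ i x).symm
      right_inv := fun y => funext fun j => by
        show CurveCoh17.hmap k (biproduct.π G j) i (∑ q, CurveCoh17.hmap k (biproduct.ι G q) i (y q)) = y j
        rw [map_sum, Finset.sum_eq_single j]
        · rw [← CurveCoh17.hmap_comp, biproduct.ι_π_self, CurveCoh17.hmap_id]
        · intro q _ hij
          rw [← CurveCoh17.hmap_comp, biproduct.ι_π_ne G hij, CurveCoh17.hmap_zero]
        · simp }
  rw [hdim, ← (CBC10.hmapLinEquiv k e i).finrank_eq, a.finrank_eq, Module.finrank_pi_fintype, Finset.sum_const,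
    Finset.card_univ, Fintype.card_fin, smul_eq_mul]
  rfl

end Groth.Agent.AsympCoh18
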