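import Groth.Agent.Lib.AsympCoh18.Core
import Groth.Agent.Lib.Snapper.Twist
import Groth.Agent.Lib.TensorMod.InvCrit
import Groth.Prelude.Def_ClSub2

/-!
# The family of integral twists
-/

set_option autoImplicit false
set_option linter.style.haveILetI false
set_option linter.unusedSectionVars false
set_option backward.isDefEq.respectTransparency false
set_option backward.isDefEq.respectTransparency.types false

universe u

open CategoryTheory CategoryTheory.Limits AlgebraicGeometry TopologicalSpace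

namespace Groth.Agent.AsympCoh18

open Groth.Agent Growth13 W4c5asymptcohfn

variable {X : Scheme.{u}} {r : ℕ} {L M : Fin r → X.Modules}

theorem isInvertible_of_inverse {N N' : X.Modules} (hN : PicF.IsInvertible N) (h : ClSub.IsInverseOf N N') :
    PicF.IsInvertible N' := by
  obtain ⟨e⟩ := h
  obtain ⟨D, hD, ⟨eD⟩⟩ := M2.exists_inverse hN
  exact M2.isInvertible_of_iso (M2.inverseUnique eD e) hD

theorem isInvertible_ztwist (hL : ∀ j, PicF.IsInvertible (L j)) (hM : ∀ j, ClSub.IsInverseOf (L j) (M j))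
    (a : Fin r → ℤ) : PicF.IsInvertible (ztwist X L M a) :=
  M2.isInvertible_tensor (Snapper.isInvertible_multiTwist hL _)
    (Snapper.isInvertible_multiTwist (fun j => isInvertible_of_inverse (hL j) (hM j)) _)

theorem ztwist_step (hM : ∀ j, ClSub.IsInverseOf (L j) (M j)) (a : Fin r → ℤ) (j : Fin r) :
    Nonempty (ztwist X L M (a + Pi.single j 1) ≅ CohB1.tensorMod (ztwist X L M a) (L j)) := by
  have hne : ∀ i, i ≠ j → (a + Pi.single j 1 : Fin r → ℤ) i = a i := fun i hi => by simp [hi]
  rcases le_or_gt 0 (a j) with h | h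
  · have h1 : (fun i => ((a + Pi.single j 1 : Fin r → ℤ) i).toNat) =
        Function.update (fun i => (a i).toNat) j ((a j).toNat + 1) := funext fun i => by
      rcases eq_or_ne i j with rfl | hi
      · simp; omega
      · rw [hne i hi, Function.update_of_ne hi]
    have h2 : (fun i => (-(a + Pi.single j 1 : Fin r → ℤ) i).toNat) = fun i => (-(a i)).toNat := funext fun i => by
      rcases eq_or_ne i j with rfl | hi
      · simp; omega
      · rw [hne i hi]
    obtain ⟨e⟩ := Snapper.nonempty_multiTwist_update L (fun i => (a i).toNat) j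
    refine ⟨M2.tensorIso (eqToIso (congrArg (FGA.multiTwist L) h1) ≪≫ e)
      (eqToIso (congrArg (FGA.multiTwist M) h2)) ≪≫ M2.tensorAssoc _ _ _ ≪≫ M2.tensorComm _ _⟩
  · have h1 : (fun i => ((a + Pi.single j 1 : Fin r → ℤ) i).toNat) = fun i => (a i).toNat := funext fun i => by
      rcases eq_or_ne i j with rfl | hi
      · simp; omega
      · rw [hne i hi]
    have h2 : (fun i => (-(a i)).toNat) = Function.update (fun i => (-(a + Pi.single j 1 : Fin r → ℤ) i).toNat) j
        ((fun i => (-(a + Pi.single j 1 : Fin r → ℤ) i).toNat) j + 1) := funext fun i => by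
      rcases eq_or_ne i j with rfl | hi
      · simp; omega
      · rw [Function.update_of_ne hi, hne i hi]
    obtain ⟨e⟩ := Snapper.nonempty_multiTwist_update M (fun i => (-(a + Pi.single j 1 : Fin r → ℤ) i).toNat) j
    obtain ⟨u⟩ := hM j
    let P := FGA.multiTwist M (fun i => (-(a + Pi.single j 1 : Fin r → ℤ) i).toNat)
    refine ⟨M2.tensorIso (eqToIso (congrArg (FGA.multiTwist L) h1)) (Iso.refl P) ≪≫ ?_⟩
    refine M2.tensorIso (Iso.refl _) (?_ : P ≅ CohB1.tensorMod (FGA.multiTwist M fun i => (-(a i)).toNat) (L j)) ≪≫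
      (M2.tensorAssoc _ _ _).symm
    exact (M2.tensorLUnit P).symm ≪≫ M2.tensorIso u.symm (Iso.refl P) ≪≫ M2.tensorAssoc _ _ _ ≪≫
      M2.tensorComm _ _ ≪≫ M2.tensorIso (e.symm ≪≫ eqToIso (congrArg (FGA.multiTwist M) h2.symm)) (Iso.refl _)

/-- Powers of a tensor product of powers. -/
theorem nonempty_tensorList_pow {ι : Type} (N : ι → X.Modules) (b : ι → ℕ) (m : ℕ) :
    ∀ l : List ι, Nonempty (CohB1.tensorPow (FGA.tensorList (l.map fun j => CohB1.tensorPow (N j) (b j))) m ≅
      FGA.tensorList (l.map fun j => CohB1.tensorPow (N j) (m * b j)))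
  | [] => Snapper.nonempty_tensorPow_unit m
  | j :: l => by
    obtain ⟨e⟩ := nonempty_tensorList_pow N b m l
    simp only [List.map_cons, FGA.tensorList]
    exact ⟨M2.tensorPowMul _ _ m ≪≫
      M2.tensorIso (M2.tensorPowPow (N j) (b j) m ≪≫ eqToIso (by rw [Nat.mul_comm])) e⟩

theorem ztwist_pow (a : Fin r → ℤ) (m : ℕ) :
    Nonempty (CohB1.tensorPow (ztwist X L M a) m ≅ ztwist X L M ((m : ℤ) • a)) := by
  obtain ⟨e1⟩ := nonempty_tensorList_pow L (fun i => (a i).toNat) m (List.finRange r)
  obtain ⟨e2⟩ := nonempty_tensorList_pow M (fun i => (-(a i)).toNat) m (List.finRange r)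
  have h1 : (fun i => (((m : ℤ) • a) i).toNat) = fun i => m * (a i).toNat := funext fun i => by
    rcases le_or_gt 0 (a i) with h | h
    · rw [Pi.smul_apply, smul_eq_mul, Int.toNat_mul (by positivity) h, Int.toNat_natCast]
    · rw [Pi.smul_apply, smul_eq_mul, Int.toNat_of_nonpos h.le,
        Int.toNat_of_nonpos (mul_nonpos_of_nonneg_of_nonpos (by positivity) h.le), Nat.mul_zero]
  have h2 : (fun i => (-(((m : ℤ) • a) i)).toNat) = fun i => m * (-(a i)).toNat := funext fun i => by
    rw [Pi.smul_apply, smul_eq_mul, ← mul_neg]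
    rcases le_or_gt 0 (-(a i)) with h | h
    · rw [Int.toNat_mul (by positivity) h, Int.toNat_natCast]
    · rw [Int.toNat_of_nonpos h.le,
        Int.toNat_of_nonpos (mul_nonpos_of_nonneg_of_nonpos (by positivity) h.le), Nat.mul_zero]
  exact ⟨M2.tensorPowMul _ _ m ≪≫ M2.tensorIso
    (e1 ≪≫ eqToIso (congrArg (FGA.multiTwist L) h1.symm)) (e2 ≪≫ eqToIso (congrArg (FGA.multiTwist M) h2.symm))⟩

theorem nonempty_tensorList_unit {ι : Type} (N : ι → X.Modules) :
    ∀ l : List ι, Nonempty (FGA.tensorList (l.map fun j => CohB1.tensorPow (N j) 0) ≅ Coh.structureModule X)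
  | [] => ⟨Iso.refl _⟩
  | j :: l => by
    obtain ⟨e⟩ := nonempty_tensorList_unit N l
    simp only [List.map_cons, FGA.tensorList]
    exact ⟨M2.tensorIso (Iso.refl _) e ≪≫ M2.tensorRUnit _⟩

/-- A twist by natural exponents. -/
theorem ztwist_natCast (b : Fin r → ℕ) :
    Nonempty (ztwist X L M (fun i => (b i : ℤ)) ≅ FGA.multiTwist L b) := by
  obtain ⟨e⟩ := nonempty_tensorList_unit M (List.finRange r)
  have h1 : (fun i => ((b i : ℤ)).toNat) = b := funext fun i => Int.toNat_natCast _
  have h2 : (fun i => (-((b i : ℤ))).toNat) = fun _ => 0 := funext fun i => by simp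
  exact ⟨M2.tensorIso (eqToIso (congrArg (FGA.multiTwist L) h1))
    (eqToIso (congrArg (FGA.multiTwist M) h2) ≪≫ e) ≪≫ M2.tensorRUnit _⟩

theorem ztwist_zero : Nonempty (ztwist X L M 0 ≅ Coh.structureModule X) := by
  obtain ⟨e⟩ := ztwist_natCast (L := L) (M := M) (fun _ => 0)
  obtain ⟨e'⟩ := nonempty_tensorList_unit L (List.finRange r)
  exact ⟨eqToIso (by congr 1) ≪≫ e ≪≫ e'⟩

end Groth.Agent.AsympCoh18
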