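import Groth.Agent.Lib.AsympCoh18.Limit

/-!
# Asymptotic cohomology along the powers of one invertible module
-/

set_option autoImplicit false
set_option linter.style.haveILetI false
set_option linter.unusedSectionVars false
set_option backward.isDefEq.respectTransparency false
set_option backward.isDefEq.respectTransparency.types false

universe u

open CategoryTheory CategoryTheory.Limits AlgebraicGeometry TopologicalSpace Filter

namespace Groth.Agent.AsympCoh18

open Groth.Agent Growth13 W4c5asymptcohfn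

variable {k : Type u} [Field k] {X : Scheme.{u}} [X.Over (Spec (CommRingCat.of k))]

theorem hhat_congr {N N' : X.Modules} (e : N ≅ N') (n i : ℕ) : hhat k X n i N = hhat k X n i N' := by
  unfold W4c5asymptcohfn.hhat
  congr 1
  funext m
  rw [(CurveCoh17.hequiv k (M2.tensorPowIso e m) i).finrank_eq]

/-- The family of the powers of an invertible module. -/
theorem exists_family {L : X.Modules} (hL : PicF.IsInvertible L) : ∃ F : (Fin 1 → ℤ) → X.Modules,
    (∀ a, PicF.IsInvertible (F a)) ∧ (∀ a j, Nonempty (F (a + Pi.single j 1) ≅ CohB1.tensorMod (F a) L)) ∧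
      ∀ m : ℕ, Nonempty (F (fun _ => (m : ℤ)) ≅ CohB1.tensorPow L m) := by
  obtain ⟨L', hL', ⟨e⟩⟩ := M2.exists_inverse hL
  refine ⟨ztwist X (fun _ : Fin 1 => L) (fun _ : Fin 1 => L'),
    isInvertible_ztwist (fun _ => hL) (fun _ => ⟨e⟩), ztwist_step (fun _ => ⟨e⟩), fun m => ?_⟩
  obtain ⟨e'⟩ := ztwist_natCast (L := fun _ : Fin 1 => L) (M := fun _ : Fin 1 => L') (fun _ => m)
  exact ⟨e' ≪≫ M2.tensorRUnit _⟩

theorem wt_const (m : ℕ) : wt (fun _ : Fin 1 => (m : ℤ)) = m := by simp [wt]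

variable [IsProper (X ↘ Spec (CommRingCat.of k))] {n : ℕ}

/-- The normalised cohomology of the twists of a coherent module is bounded. -/
theorem cohSeq_bounded (hn : topologicalKrullDim X ≤ (n : WithBot ℕ∞)) {G : X.Modules} (hG : Coh.IsCoh G)
    {L : X.Modules} (hL : PicF.IsInvertible L) (i : ℕ) :
    ∃ B : ℝ, ∀ᶠ m in atTop, cohSeq k X n i G L m ≤ B := by
  obtain ⟨F, hF, hstep, hpow⟩ := exists_family hL
  obtain ⟨C, hC⟩ := bdd k (L := fun _ : Fin 1 => L) (fun _ => hL) hF hstep n G hG (dim_support_le hn _)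
  refine ⟨(C : ℝ) * 2 ^ n * n.factorial, ?_⟩
  filter_upwards [eventually_gt_atTop 0] with m hm
  obtain ⟨e⟩ := hpow m
  have h1 : hdim k (CohB1.tensorMod G (CohB1.tensorPow L m)) i ≤ C * (m + 1) ^ n := by
    rw [← hdim_iso k (M2.tensorIso (Iso.refl G) e) i]
    exact (hC i _).trans (by rw [wt_const])
  have h2 : hdim k (CohB1.tensorMod G (CohB1.tensorPow L m)) i ≤ C * (2 * m) ^ n :=
    h1.trans (Nat.mul_le_mul_left _ (Nat.pow_le_pow_left (by omega) _))
  have hm' : (0 : ℝ) < m := by exact_mod_cast hm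
  show (hdim k (CohB1.tensorMod G (CohB1.tensorPow L m)) i : ℝ) * _ / _ ≤ _
  rw [div_le_iff₀ (pow_pos hm' n)]
  have h3 : (hdim k (CohB1.tensorMod G (CohB1.tensorPow L m)) i : ℝ) ≤ (C * (2 * m) ^ n : ℕ) := by exact_mod_cast h2
  push_cast at h3
  rw [mul_pow] at h3
  nlinarith [mul_le_mul_of_nonneg_right h3 (Nat.cast_nonneg (α := ℝ) n.factorial)]

/-- Close modules have the same asymptotic cohomology. -/
theorem hhatF_eq_of_close (hn : topologicalKrullDim X ≤ (n : WithBot ℕ∞)) {G G' : X.Modules} (hG' : Coh.IsCoh G')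
    {L : X.Modules} (hL : PicF.IsInvertible L)
    (h : ∀ F : (Fin 1 → ℤ) → X.Modules, (∀ a, PicF.IsInvertible (F a)) →
      (∀ a j, Nonempty (F (a + Pi.single j 1) ≅ CohB1.tensorMod (F a) L)) → Close k F n G G') (i : ℕ) :
    hhatF k X n i G L = hhatF k X n i G' L := by
  obtain ⟨F, hF, hstep, hpow⟩ := exists_family hL
  obtain ⟨C, hC0, hC⟩ := h F hF hstep
  obtain ⟨B, hB⟩ := cohSeq_bounded hn hG' hL i (k := k)
  refine sub_eq_zero.1 (abs_nonpos_iff.1 (abs_limsup_sub_le (Eventually.of_forall fun m => by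
    unfold W4c5asymptcohfn.cohSeq; positivity) hB (Eventually.of_forall fun m => ?_) (tendsto_err n C hC0 1)))
  obtain ⟨e⟩ := hpow m
  obtain ⟨h1, h2⟩ := hC i (fun _ => (m : ℤ))
  rw [hdim_iso k (M2.tensorIso (Iso.refl G) e) i, hdim_iso k (M2.tensorIso (Iso.refl G') e) i, wt_const] at h1 h2
  have h1' : (hdim k (CohB1.tensorMod G (CohB1.tensorPow L m)) i : ℝ) ≤
      hdim k (CohB1.tensorMod G' (CohB1.tensorPow L m)) i + (C : ℝ) * ((m : ℝ) + 1) ^ (n - 1) := by exact_mod_cast h1
  have h2' : (hdim k (CohB1.tensorMod G' (CohB1.tensorPow L m)) i : ℝ) ≤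
      hdim k (CohB1.tensorMod G (CohB1.tensorPow L m)) i + (C : ℝ) * ((m : ℝ) + 1) ^ (n - 1) := by exact_mod_cast h2
  show |(hdim k (CohB1.tensorMod G _) i : ℝ) * _ / _ - (hdim k (CohB1.tensorMod G' _) i : ℝ) * _ / _| ≤ _
  rw [← sub_div, abs_div, abs_pow, Nat.abs_cast m, ← sub_mul, abs_mul,
    Nat.abs_cast n.factorial, Nat.cast_one]
  gcongr
  exact abs_sub_le_iff.2 ⟨by linarith, by linarith⟩

/-- The asymptotic cohomology of a coherent module is its rank times that of the structure sheaf. -/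
theorem hhatF_eq_rank_mul [IsIntegral X] (hn : topologicalKrullDim X ≤ (n : WithBot ℕ∞)) {G : X.Modules}
    (hG : Coh.IsCoh G) {r : ℕ}
    (hr : Module.finrank (X.presheaf.stalk (genericPoint X)) (G.presheaf.stalk (genericPoint X)) = r)
    {L : X.Modules} (hL : PicF.IsInvertible L) (i : ℕ) :
    hhatF k X n i G L = (r : ℝ) * hhat k X n i L := by
  subst hr
  rw [hhatF_eq_of_close hn (CurveCoh17.isCoh_of_ofRank (M2.isFinLocFreeOfRank_freeMod X _)) hL
    (fun F hF hstep => close_free (fun _ => hL) hF hstep hn hG) i]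
  generalize Module.finrank (X.presheaf.stalk (genericPoint X)) (G.presheaf.stalk (genericPoint X)) = r
  have e : cohSeq k X n i (FlatMod.freeMod X r) L = fun m => (r : ℝ) *
      ((Module.finrank k (Coh.HH X (CohB1.tensorPow L m) i) : ℝ) * (n.factorial : ℝ) / (m : ℝ) ^ n) := funext fun m => by
    show (hdim k _ i : ℝ) * _ / _ = _
    rw [hdim_freeMod_tensor (Snapper.isCoh_of_isInvertible (M2.isInvertible_tensorPow hL m)), hdim]
    push_cast
    ring
  unfold W4c5asymptcohfn.hhatF W4c5asymptcohfn.hhat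
  rw [e]
  set u := fun m : ℕ => (Module.finrank k (Coh.HH X (CohB1.tensorPow L m) i) : ℝ) * (n.factorial : ℝ) / (m : ℝ) ^ n
    with hu
  obtain ⟨B, hB⟩ := cohSeq_bounded hn (M1.isCoh_structureModule X) hL i (k := k)
  have hub : IsBoundedUnder (· ≤ ·) atTop u := isBoundedUnder_of_eventually_le (a := B) (by
    filter_upwards [hB] with m hm
    refine le_trans (le_of_eq ?_) hm
    show _ = (hdim k _ i : ℝ) * _ / _
    rw [hdim_iso k (M2.tensorLUnit _) i]
    rfl)
  have hub' : IsBoundedUnder (· ≥ ·) atTop u :=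
    isBoundedUnder_of_eventually_ge (a := 0) (Eventually.of_forall fun m => by positivity)
  have hmono : Monotone fun x : ℝ => (r : ℝ) * x := fun x y h => mul_le_mul_of_nonneg_left h (Nat.cast_nonneg r)
  exact (hmono.map_limsup_of_continuousAt u (continuous_const_mul (r : ℝ)).continuousAt hub hub'.isCoboundedUnder_le).symm

/-- Asymptotic cohomology is homogeneous. -/
theorem hhat_tensorPow [IsIntegral X] (hn : topologicalKrullDim X ≤ (n : WithBot ℕ∞)) {L : X.Modules}
    (hL : PicF.IsInvertible L) {a : ℕ} (ha : 1 ≤ a) (i : ℕ) :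
    hhat k X n i (CohB1.tensorPow L a) = (a : ℝ) ^ n * hhat k X n i L := by
  obtain ⟨F, hF, hstep, hpow⟩ := exists_family hL
  obtain ⟨D, hD0, hD⟩ := exists_lipschitz (k := k) (fun _ => hL) hF hstep hn
  have hg : ∀ m : ℕ, g k F i (fun _ => (m : ℤ)) = Module.finrank k (Coh.HH X (CohB1.tensorPow L m) i) := fun m => by
    obtain ⟨e⟩ := hpow m
    exact hdim_iso k (M2.tensorLUnit _ ≪≫ e) i
  set s : ℕ → ℝ := fun m => (Module.finrank k (Coh.HH X (CohB1.tensorPow L m) i) : ℝ) * (n.factorial : ℝ) with hs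
  obtain ⟨B, hB⟩ := cohSeq_bounded hn (M1.isCoh_structureModule X) hL i (k := k)
  have hu : ∀ᶠ m in atTop, s m / (m : ℝ) ^ n ≤ B := by
    filter_upwards [hB] with m hm
    refine le_trans (le_of_eq ?_) hm
    show _ = (hdim k _ i : ℝ) * _ / _
    rw [hdim_iso k (M2.tensorLUnit _) i]
    rfl
  -- the values at the multiples of `a`
  have e1 : hhat k X n i (CohB1.tensorPow L a) = limsup (fun q : ℕ => (a : ℝ) ^ n * (s (a * q) / ((a * q : ℕ) : ℝ) ^ n)) atTop := by
    unfold W4c5asymptcohfn.hhat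
    refine limsup_congr ?_
    filter_upwards [eventually_gt_atTop 0] with q hq
    rw [(CurveCoh17.hequiv k (M2.tensorPowPow L a q) i).finrank_eq]
    have hq' : (q : ℝ) ≠ 0 := by exact_mod_cast hq.ne'
    have ha' : (a : ℝ) ≠ 0 := by exact_mod_cast (Nat.one_le_iff_ne_zero.1 ha)
    simp only [hs, Nat.cast_mul, mul_pow]
    field_simp
  let w : ℕ → ℝ := fun q => (a : ℝ) ^ n * (s (a * q) / ((a * q : ℕ) : ℝ) ^ n)
  have e2 : limsup w atTop = limsup (fun m => w (m / a)) atTop := by
    conv_lhs => rw [← map_div_atTop_eq_nat a ha]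
    exact (limsup_comp w (fun m => m / a) atTop).symm
  -- comparison of consecutive values
  have hstep' : ∀ m : ℕ, |s m - s (a * (m / a))| ≤ (D : ℝ) * a * ((m : ℝ) + 2 * a) ^ (n - 1) * n.factorial := by
    intro m
    have h := hD i (fun _ => ((a * (m / a) : ℕ) : ℤ)) (fun _ => (m : ℤ))
    rw [hg, hg, wt_const] at h
    have hle : a * (m / a) ≤ m := Nat.mul_div_le m a
    have hsub : m - a * (m / a) < a := by
      have := Nat.mod_lt m (show 0 < a from ha)
      have := Nat.mod_add_div m a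
      omega
    have hw : wt ((fun _ : Fin 1 => (m : ℤ)) - fun _ => ((a * (m / a) : ℕ) : ℤ)) = m - a * (m / a) := by
      have : ((fun _ : Fin 1 => (m : ℤ)) - fun _ => ((a * (m / a) : ℕ) : ℤ)) =
          fun _ => ((m - a * (m / a) : ℕ) : ℤ) := funext fun _ => by simp only [Pi.sub_apply]; omega
      rw [this, wt_const]
    rw [hw] at h
    have h' : |(Module.finrank k (Coh.HH X (CohB1.tensorPow L (a * (m / a))) i) : ℝ) -
        Module.finrank k (Coh.HH X (CohB1.tensorPow L m) i)| ≤ (D : ℝ) * ((m - a * (m / a) : ℕ) : ℝ) *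
          ((a * (m / a) + (m - a * (m / a)) + 1 : ℕ) : ℝ) ^ (n - 1) := by
      have h2 := (Int.cast_le (R := ℝ)).2 h
      rw [Int.cast_abs, Int.cast_sub, Int.cast_mul, Int.cast_mul, Int.cast_pow, Int.cast_natCast, Int.cast_natCast,
        Int.cast_natCast, Int.cast_natCast, Int.cast_natCast] at h2
      exact h2
    simp only [hs, ← sub_mul, abs_mul, Nat.abs_cast n.factorial]
    rw [abs_sub_comm]
    refine mul_le_mul_of_nonneg_right (h'.trans ?_) (Nat.cast_nonneg _)
    refine mul_le_mul (mul_le_mul_of_nonneg_left (by exact_mod_cast hsub.le) (Nat.cast_nonneg _)) ?_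
      (by positivity) (by positivity)
    refine pow_le_pow_left₀ (by positivity) ?_ _
    have : a * (m / a) + (m - a * (m / a)) + 1 ≤ m + 2 * a := by omega
    exact_mod_cast this
  have hB0 : ∀ᶠ m in atTop, (a : ℝ) ^ n * (s m / (m : ℝ) ^ n) ≤ (a : ℝ) ^ n * B :=
    hu.mono fun m hm => mul_le_mul_of_nonneg_left hm (by positivity)
  have htend : Tendsto (fun m : ℕ => (a : ℝ) ^ n * ((((D * a : ℕ) : ℝ) * ((m : ℝ) + (2 * a : ℕ)) ^ (n - 1) * n.factorial / (m : ℝ) ^ n) *
      ((m : ℝ) / ((a * (m / a) : ℕ) : ℝ)) ^ n + |B| * (((m : ℝ) / ((a * (m / a) : ℕ) : ℝ)) ^ n - 1))) atTop (nhds 0) := by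
    have h1 := tendsto_err n (D * a) (fun h => by simp [hD0 h]) (2 * a)
    have h2 : Tendsto (fun m : ℕ => (m : ℝ) / ((a * (m / a) : ℕ) : ℝ)) atTop (nhds 1) := by
      refine tendsto_of_tendsto_of_tendsto_of_le_of_le' tendsto_const_nhds
        (h := fun m : ℕ => 1 + (a : ℝ) / ((a * (m / a) : ℕ) : ℝ)) ?_ ?_ ?_
      · have : Tendsto (fun m : ℕ => a * (m / a)) atTop atTop :=
          tendsto_atTop.2 fun b => eventually_atTop.2 ⟨b + a, fun m hm => by
            have := Nat.mod_lt m (show 0 < a from ha)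
            have := Nat.mod_add_div m a
            omega⟩
        simpa using tendsto_const_nhds.add ((tendsto_const_div_atTop_nhds_zero_nat (a : ℝ)).comp this)
      · filter_upwards [eventually_ge_atTop a] with m hm
        have hpos : 0 < a * (m / a) := Nat.mul_pos ha (Nat.div_pos hm ha)
        rw [le_div_iff₀ (by exact_mod_cast hpos), one_mul]
        exact_mod_cast Nat.mul_div_le m a
      · filter_upwards [eventually_ge_atTop a] with m hm
        have hpos : 0 < a * (m / a) := Nat.mul_pos ha (Nat.div_pos hm ha)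
        rw [div_le_iff₀ (by exact_mod_cast hpos), add_mul, one_mul, div_mul_cancel₀ _ (by exact_mod_cast hpos.ne')]
        have := Nat.mod_lt m (show 0 < a from ha)
        have := Nat.mod_add_div m a
        have h : m ≤ a * (m / a) + a := by omega
        exact_mod_cast h
    simpa using ((h1.mul (h2.pow n)).add (((h2.pow n).sub_const 1).const_mul |B|)).const_mul ((a : ℝ) ^ n)
  have key := abs_limsup_sub_le (s := fun m => w (m / a)) (t := fun m => (a : ℝ) ^ n * (s m / (m : ℝ) ^ n))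
    (B := (a : ℝ) ^ n * B) (Eventually.of_forall fun m => by simp only [hs]; positivity) hB0 ?_ htend
  · rw [e1, show limsup (fun q : ℕ => (a : ℝ) ^ n * (s (a * q) / ((a * q : ℕ) : ℝ) ^ n)) atTop = limsup w atTop from rfl,
      e2, sub_eq_zero.1 (abs_nonpos_iff.1 key)]
    have hmono : Monotone fun x : ℝ => (a : ℝ) ^ n * x := fun x y h => mul_le_mul_of_nonneg_left h (by positivity)
    exact (hmono.map_limsup_of_continuousAt _ (continuous_const_mul _).continuousAt
      (isBoundedUnder_of_eventually_le hu)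
      (isBoundedUnder_of_eventually_ge (a := (0 : ℝ)) (Eventually.of_forall fun m => by
        simp only [hs]; positivity)).isCoboundedUnder_le).symm
  filter_upwards [hu, eventually_ge_atTop a] with m hm hma
  simp only [w]
  rw [← mul_sub, abs_mul, abs_of_nonneg (by positivity : (0 : ℝ) ≤ (a : ℝ) ^ n)]
  refine mul_le_mul_of_nonneg_left ?_ (by positivity)
  have hm0 : (0 : ℝ) < (m : ℝ) := by exact_mod_cast lt_of_lt_of_le (show 0 < a from ha) hma
  have hpos : (0 : ℝ) < ((a * (m / a) : ℕ) : ℝ) := by exact_mod_cast Nat.mul_pos ha (Nat.div_pos hma ha)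
  set m' : ℝ := ((a * (m / a) : ℕ) : ℝ)
  set t := s (a * (m / a)) with ht
  have hmm : m' ≤ m := Nat.cast_le.2 (Nat.mul_div_le m a)
  have hρ : 1 ≤ ((m : ℝ) / m') ^ n := one_le_pow₀ ((one_le_div hpos).2 hmm)
  have hdec : t / m' ^ n - s m / (m : ℝ) ^ n =
      (t - s m) / (m : ℝ) ^ n * ((m : ℝ) / m') ^ n + s m / (m : ℝ) ^ n * (((m : ℝ) / m') ^ n - 1) := by
    rw [div_pow]
    field_simp
    ring
  have hsm : |s m / (m : ℝ) ^ n| ≤ |B| := by
    rw [abs_of_nonneg (by simp only [hs]; positivity)]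
    exact hm.trans (le_abs_self B)
  have hdiff := hstep' m
  rw [abs_sub_comm] at hdiff
  have hE : 0 ≤ ((D * a : ℕ) : ℝ) * ((m : ℝ) + (2 * a : ℕ)) ^ (n - 1) * n.factorial / (m : ℝ) ^ n := by positivity
  rw [hdec]
  refine (abs_add_le _ _).trans (add_le_add ?_ ?_)
  · rw [abs_mul, abs_of_nonneg (by positivity : (0:ℝ) ≤ ((m : ℝ) / m') ^ n), abs_div,
      abs_of_pos (pow_pos hm0 n)]
    refine mul_le_mul_of_nonneg_right (div_le_div_of_nonneg_right ?_ (le_of_lt (pow_pos hm0 n))) (by positivity)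
    rw [abs_sub_comm] at hdiff
    push_cast at hdiff ⊢
    first | exact hdiff | (rw [abs_sub_comm]; exact hdiff)
  · rw [abs_mul, abs_of_nonneg (sub_nonneg.2 hρ)]
    exact mul_le_mul_of_nonneg_right hsm (sub_nonneg.2 hρ)

end Groth.Agent.AsympCoh18
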