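import Groth.Agent.Lib.Growth13.Bound
import Groth.Agent.Lib.AsympCoh18.Single

/-!
# Growth of the twists by pullbacks is bounded by the dimension of the image of the support
-/

set_option autoImplicit false
set_option linter.style.haveILetI false
set_option linter.unusedSectionVars false
set_option maxHeartbeats 1000000
set_option backward.isDefEq.respectTransparency false
set_option backward.isDefEq.respectTransparency.types false

universe u

open CategoryTheory CategoryTheory.Limits AlgebraicGeometry TopologicalSpace Opposite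

namespace Groth.Agent.AsympCoh18

open Groth.Agent CohFound Growth13

/-- Two coherent modules isomorphic on an open with affine inclusion differ outside it. -/
theorem exists_zigzag_affineHom {X : Scheme.{u}} [IsLocallyNoetherian X] {G G' : X.Modules} (hG : Coh.IsCoh G)
    (hG' : Coh.IsCoh G') {η : X} (hs : CohB1.support G ⊆ closure {η}) (hs' : CohB1.support G' ⊆ closure {η})
    (U : X.Opens) [IsAffineHom U.ι] (e : G'.restrict U.ι ≅ G.restrict U.ι) :
    ∃ (W : X.Modules) (φ : W ⟶ G) (ψ : W ⟶ G'), Coh.IsCoh W ∧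
      CohB1.support (kernel φ) ⊆ closure {η} \ (U : Set X) ∧
      CohB1.support (cokernel φ) ⊆ closure {η} \ (U : Set X) ∧
      CohB1.support (kernel ψ) ⊆ closure {η} \ (U : Set X) ∧
      CohB1.support (cokernel ψ) ⊆ closure {η} \ (U : Set X) := by
  let P := (Scheme.Modules.pushforward U.ι).obj (G.restrict U.ι)
  have hP : Coh.IsQCoh P := PushFin12.isQCoh_pushforward U.ι (G.restrict U.ι) (M1.isQCoh_restrict hG.1 U.ι)
  let a : G ⟶ P := (Scheme.Modules.restrictAdjunction U.ι).unit.app G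
  let b : G' ⟶ P := (Scheme.Modules.restrictAdjunction U.ι).unit.app _ ≫
    (Scheme.Modules.pushforward U.ι).map e.hom
  have ha : IsIso ((Scheme.Modules.restrictFunctor U.ι).map a) := M1.isIso_restrict_unit U.ι G
  have hb : IsIso ((Scheme.Modules.restrictFunctor U.ι).map b) := by
    haveI := M1.isIso_restrict_unit U.ι G'
    simp only [b, Functor.map_comp]
    infer_instance
  have hfst := (Twist.isIso_restrict_map_iff _ U).1 (M1.isIso_restrict_fst a b U.ι hb)
  have hsnd := (Twist.isIso_restrict_map_iff _ U).1 (M1.isIso_restrict_snd a b U.ι ha)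
  have hW : CohB1.support (pullback a b) ⊆ closure {η} := by
    haveI : Mono (biprod.lift (pullback.fst a b) (pullback.snd a b)) :=
      ⟨fun g h he => pullback.hom_ext
        (by simpa using congrArg (fun t => t ≫ biprod.fst) he)
        (by simpa using congrArg (fun t => t ≫ biprod.snd) he)⟩
    refine (support_subset_of_mono (biprod.lift (pullback.fst a b) (pullback.snd a b))).trans ?_
    rw [CohGab13.support_mid (ShortComplex.Splitting.ofHasBinaryBiproduct G G').shortExact]
    exact Set.union_subset hs hs'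
  have key : ∀ {N : X.Modules} (φ : pullback a b ⟶ N), CohB1.support N ⊆ closure {η} →
      (∀ V : X.Opens, V ≤ U → Function.Bijective (φ.app V)) →
      CohB1.support (kernel φ) ⊆ closure {η} \ (U : Set X) ∧
        CohB1.support (cokernel φ) ⊆ closure {η} \ (U : Set X) := by
    intro N φ hN hφ
    refine ⟨fun x hx => ⟨hW (support_subset_of_mono (kernel.ι φ) hx), fun hxU => hx ?_⟩,
      fun x hx => ⟨hN (support_subset_of_epi (cokernel.π φ) hx), fun hxU => hx ?_⟩⟩
    · exact ⟨fun s t => (CurveCoh17.eq_zero_stalk_kernel φ x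
        (CurveCoh17.bijective_stalkMap_of_app φ U hφ hxU).1 s).trans
        (CurveCoh17.eq_zero_stalk_kernel φ x (CurveCoh17.bijective_stalkMap_of_app φ U hφ hxU).1 t).symm⟩
    · exact ⟨fun s t => (CurveCoh17.eq_zero_stalk_cokernel φ x
        (CurveCoh17.bijective_stalkMap_of_app φ U hφ hxU).2 s).trans
        (CurveCoh17.eq_zero_stalk_cokernel φ x (CurveCoh17.bijective_stalkMap_of_app φ U hφ hxU).2 t).symm⟩
  obtain ⟨h1, h2⟩ := key (pullback.fst a b) hs hfst
  obtain ⟨h3, h4⟩ := key (pullback.snd a b) hs' hsnd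
  exact ⟨_, _, _, M1.isCoh_fibreProd hG hG' hP a b, h1, h2, h3, h4⟩

/-- The pullback of a module trivial on an open is trivial on the preimage. -/
theorem nonempty_trivial_pullback {X Y : Scheme.{u}} (f : Y ⟶ X) {L : X.Modules} {V : X.Opens}
    (e : L.restrict V.ι ≅ Coh.structureModule V.toScheme) :
    Nonempty (((Scheme.Modules.pullback f).obj L).restrict (f ⁻¹ᵁ V).ι ≅ Coh.structureModule (f ⁻¹ᵁ V).toScheme) :=
  ⟨(Scheme.Modules.restrictFunctorIsoPullback (f ⁻¹ᵁ V).ι).app _ ≪≫
    (Scheme.Modules.pullbackComp (f ⁻¹ᵁ V).ι f).app L ≪≫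
    (Scheme.Modules.pullbackCongr (morphismRestrict_ι f V).symm).app L ≪≫
    ((Scheme.Modules.pullbackComp (f ∣_ V) V.ι).app L).symm ≪≫
    (Scheme.Modules.pullback (f ∣_ V)).mapIso (((Scheme.Modules.restrictFunctorIsoPullback V.ι).app L).symm ≪≫ e) ≪≫
    PicLoc.pullbackStructureIso (f ∣_ V)⟩

variable {X Y : Scheme.{u}} (k : Type u) [Field k] [Y.Over (Spec (CommRingCat.of k))]
  [IsProper (Y ↘ Spec (CommRingCat.of k))] (f : Y ⟶ X) [X.IsSeparated] {r : ℕ} {L : Fin r → X.Modules}
  {F : (Fin r → ℤ) → Y.Modules}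

/-- Growth bounded by the dimension of the image of the support. -/
theorem bdd_image (hL : ∀ j, PicF.IsInvertible (L j)) (hF : ∀ a, PicF.IsInvertible (F a))
    (hstep : ∀ a j, Nonempty (F (a + Pi.single j 1) ≅ CohB1.tensorMod (F a) ((Scheme.Modules.pullback f).obj (L j)))) :
    ∀ (d : ℕ) (G : Y.Modules), Coh.IsCoh G →
      topologicalKrullDim (closure (f '' CohB1.support G) : Set X) ≤ (d : WithBot ℕ∞) → Bdd k F d G := by
  haveI : IsNoetherian Y := CohFound.isNoetherian_of_isProper (Y ↘ (Spec (CommRingCat.of k)))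
  intro d
  induction d using Nat.strong_induction_on with
  | _ d IH =>
  intro M hM hdim'
  refine (twoOfThreeOn_bdd hF d (CohB1.support M)).holds (fun η hη => ?_) hM subset_rfl
  obtain ⟨Z, i, hi, hZ, hr, hηi, -⟩ := exists_integral_point η
  haveI : IsLocallyNoetherian Z := LocallyOfFiniteType.isLocallyNoetherian i
  subst hηi
  obtain ⟨g, hg, hgen, hkill⟩ := exists_cyclic_push_structureModule i
  let G := (Scheme.Modules.pushforward i).obj (Coh.structureModule Z)
  have hG : Coh.IsCoh G := isCoh_push_closedImm i (M1.isCoh_structureModule Z)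
  have hGs : CohB1.support G ⊆ closure {i (genericPoint Z)} := (CohFound.support_push_subset i _).trans hr.le
  refine ⟨HasModel.ofCyclic (fun M N h p => Bdd.of_iso h.some p) G hG hGs g hg hgen hkill ?_⟩
  set x := f (i (genericPoint Z)) with hx
  have hdx : topologicalKrullDim (closure ({x} : Set X)) ≤ (d : WithBot ℕ∞) :=
    Snapper.dim_le_of_subset (closure_mono (Set.singleton_subset_iff.2 (Set.mem_image_of_mem f hη))) hdim'
  have himg : ∀ A : Set Y, A ⊆ closure {i (genericPoint Z)} → f '' A ⊆ closure {x} := fun A hA =>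
    (Set.image_mono hA).trans ((image_closure_subset_closure_image f.continuous).trans (by rw [Set.image_singleton]))
  -- the bound for the modules supported away from the fibre over a neighbourhood
  obtain ⟨e, he, hsmall⟩ : ∃ e : ℕ, (d = 0 ∨ d = e + 1) ∧ ∀ (K : Y.Modules) (V : X.Opens), Coh.IsCoh K →
      x ∈ V → CohB1.support K ⊆ closure {i (genericPoint Z)} \ (f ⁻¹ᵁ V : Set Y) →
      ∃ B : ℕ, ∀ n a, hdim k (CohB1.tensorMod K (F a)) n ≤ B * (wt a + 1) ^ e ∧ (d = 0 → B = 0) := by
    have hcl : ∀ (K : Y.Modules) (V : X.Opens),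
        CohB1.support K ⊆ closure {i (genericPoint Z)} \ (f ⁻¹ᵁ V : Set Y) →
        f '' CohB1.support K ⊆ closure {x} \ (V : Set X) := fun K V h => by
      rintro _ ⟨y, hy, rfl⟩
      exact ⟨himg _ Set.sdiff_subset ⟨y, h hy, rfl⟩, (h hy).2⟩
    rcases d with _ | d'
    · refine ⟨0, Or.inl rfl, fun K V _ hxV hKC => ⟨0, fun n a => ⟨?_, fun _ => rfl⟩⟩⟩
      have hempty := Snapper.eq_empty_of_notMem (isClosed_closure.sdiff V.isOpen) Set.sdiff_subset
        (fun h => h.2 hxV) (by simpa using hdx)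
      refine (hdim_of_support_empty k (Set.subset_empty_iff.1 fun y hy => ?_) n).trans_le (Nat.zero_le _)
      exact hempty.le (hcl K V hKC ⟨y, Snapper.support_tensor_subset _ _ hy, rfl⟩)
    · refine ⟨d', Or.inr rfl, fun K V hK hxV hKC => ?_⟩
      obtain ⟨B, hB⟩ := IH d' (Nat.lt_succ_self _) K hK (Snapper.dim_le_of_subset
        ((isClosed_closure.sdiff V.isOpen).closure_subset_iff.2 (hcl K V hKC))
        (Snapper.dim_le_of_notMem (isClosed_closure.sdiff V.isOpen) Set.sdiff_subset (fun h => h.2 hxV) hdx))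
      exact ⟨B, fun n a => ⟨hB n a, fun h => absurd h (Nat.succ_ne_zero _)⟩⟩
  have hdiff : ∀ j : Fin r, ∃ D : ℕ, (d = 0 → D = 0) ∧ ∀ n a,
      hdim k (CohB1.tensorMod G (F (a + Pi.single j 1))) n ≤
        hdim k (CohB1.tensorMod G (F a)) n + D * (wt a + 1) ^ e ∧
      hdim k (CohB1.tensorMod G (F a)) n ≤
        hdim k (CohB1.tensorMod G (F (a + Pi.single j 1))) n + D * (wt a + 1) ^ e := by
    intro j
    let P := (Scheme.Modules.pullback f).obj (L j)
    have hP : PicF.IsInvertible P := PicLoc.isInvertible_pullback f (hL j)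
    have hG' : Coh.IsCoh (CohB1.tensorMod G P) := CurveCoh17.isCoh_tensor hG (Snapper.isCoh_of_isInvertible hP)
    obtain ⟨V', hxV', ⟨eV⟩⟩ := hL j x
    obtain ⟨V, hV, hxV, hVV⟩ := exists_isAffineOpen_mem_and_subset (U := V') hxV'
    obtain ⟨eV'⟩ := M2.nonempty_trivial_mono hVV eV
    obtain ⟨eU⟩ := nonempty_trivial_pullback f eV'
    haveI : IsAffineHom V.ι := CurveCoh17.isAffineHom_ι hV
    haveI : IsAffineHom (f ⁻¹ᵁ V).ι :=
      MorphismProperty.of_isPullback (P := @IsAffineHom) (isPullback_morphismRestrict f V) inferInstance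
    obtain ⟨W, φ, ψ, hW, k1, c1, k2, c2⟩ := exists_zigzag_affineHom hG hG' hGs
      ((Snapper.support_tensor_subset G _).trans hGs) (f ⁻¹ᵁ V)
      (M2.restrictTensorIso (f ⁻¹ᵁ V).ι G P ≪≫ M2.tensorIso (Iso.refl _) eU ≪≫ M2.tensorRUnit _)
    obtain ⟨B1, hB1⟩ := hsmall _ V (CurveCoh17.isCoh_kernel hW hG.1 φ) hxV k1
    obtain ⟨B2, hB2⟩ := hsmall _ V (M1.isCoh_cokernel hW.1 hG φ) hxV c1
    obtain ⟨B3, hB3⟩ := hsmall _ V (CurveCoh17.isCoh_kernel hW hG'.1 ψ) hxV k2
    obtain ⟨B4, hB4⟩ := hsmall _ V (M1.isCoh_cokernel hW.1 hG' ψ) hxV c2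
    refine ⟨2 * (B1 + B2) + 2 * (B3 + B4), fun h => ?_, fun n a => ?_⟩
    · simp [(hB1 0 0).2 h, (hB2 0 0).2 h, (hB3 0 0).2 h, (hB4 0 0).2 h]
    · obtain ⟨f'⟩ := hstep a j
      rw [hdim_iso k (M2.tensorIso (Iso.refl G) (f' ≪≫ M2.tensorComm _ _) ≪≫ (M2.tensorAssoc _ _ _).symm) n]
      have h1 := hdim_tensor_hom (k := k) φ hW hG (hF a) (B := (B1 + B2) * (wt a + 1) ^ e)
        (fun m => (hB1 m a).1.trans (Nat.mul_le_mul_right _ (Nat.le_add_right _ _)))
        (fun m => (hB2 m a).1.trans (Nat.mul_le_mul_right _ (Nat.le_add_left _ _))) n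
      have h2 := hdim_tensor_hom (k := k) ψ hW hG' (hF a) (B := (B3 + B4) * (wt a + 1) ^ e)
        (fun m => (hB3 m a).1.trans (Nat.mul_le_mul_right _ (Nat.le_add_right _ _)))
        (fun m => (hB4 m a).1.trans (Nat.mul_le_mul_right _ (Nat.le_add_left _ _))) n
      have h3 : (2 * (B1 + B2) + 2 * (B3 + B4)) * (wt a + 1) ^ e =
          2 * ((B1 + B2) * (wt a + 1) ^ e) + 2 * ((B3 + B4) * (wt a + 1) ^ e) := by ring
      show hdim k (CohB1.tensorMod (CohB1.tensorMod G P) (F a)) n ≤ _ ∧ _ ≤ hdim k (CohB1.tensorMod (CohB1.tensorMod G P) (F a)) n + _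
      omega
  choose D hD0 hD using hdiff
  obtain ⟨g₀, hg₀⟩ := exists_hdim_bound k (CurveCoh17.isCoh_tensor hG (Snapper.isCoh_of_isInvertible (hF 0)))
  refine ⟨g₀ + ∑ j, D j, fun n a => ?_⟩
  have hle : ∀ (j : Fin r) (t : ℕ), D j * t ≤ (∑ l, D l) * t := fun j t =>
    Nat.mul_le_mul_right _ (Finset.single_le_sum (fun l _ => Nat.zero_le (D l)) (Finset.mem_univ j))
  have key := le_of_step (fun b => hdim k (CohB1.tensorMod G (F b)) n) (hg₀ n) (D := ∑ l, D l) (e := e)
    (fun b j => (hD j n b).1.trans (Nat.add_le_add_left (hle j _) _))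
    (fun b j => (hD j n b).2.trans (Nat.add_le_add_left (hle j _) _)) (wt a) a rfl
  refine key.trans ?_
  rcases he with rfl | rfl
  · simp [Finset.sum_eq_zero fun j _ => hD0 j rfl]
  · have h1 : g₀ ≤ g₀ * (wt a + 1) ^ (e + 1) := Nat.le_mul_of_pos_right _ (Nat.pow_pos (Nat.succ_pos _))
    have h2 : (∑ j, D j) * wt a * (wt a + 1) ^ e ≤ (∑ j, D j) * (wt a + 1) ^ (e + 1) := by
      rw [pow_succ', mul_assoc]
      exact Nat.mul_le_mul_left _ (Nat.mul_le_mul_right _ (Nat.le_succ _))
    rw [add_mul]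
    exact add_le_add h1 h2

variable {k} in
/-- Pullbacks along a map to a lower dimensional scheme have no asymptotic cohomology. -/
theorem hhat_pullback_eq_zero {n e : ℕ} (hn : topologicalKrullDim X ≤ (n : WithBot ℕ∞)) (hne : n < e)
    {L : X.Modules} (hL : PicF.IsInvertible L) (i : ℕ) :
    W4c5asymptcohfn.hhat k Y e i ((Scheme.Modules.pullback f).obj L) = 0 := by
  obtain ⟨F, hF, hstep, hpow⟩ := exists_family (PicLoc.isInvertible_pullback f hL)
  obtain ⟨C, hC⟩ := bdd_image k f (L := fun _ : Fin 1 => L) (fun _ => hL) hF hstep n (Coh.structureModule Y)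
    (M1.isCoh_structureModule Y) (le_trans Topology.IsInducing.subtypeVal.topologicalKrullDim_le hn)
  refine Filter.Tendsto.limsup_eq (squeeze_zero' (Filter.Eventually.of_forall fun m => by positivity) ?_
    (tendsto_err e C (fun h => absurd h (by omega)) 1))
  filter_upwards [Filter.eventually_gt_atTop 0] with m hm
  obtain ⟨em⟩ := hpow m
  have h1 := hC i (fun _ => (m : ℤ))
  rw [wt_const, hdim_iso k (M2.tensorLUnit _ ≪≫ em) i, hdim] at h1
  gcongr
  have h2 : C * (m + 1) ^ n ≤ C * (m + 1) ^ (e - 1) :=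
    Nat.mul_le_mul_left _ (Nat.pow_le_pow_right (Nat.succ_pos m) (by omega))
  have h3 := h1.trans h2
  rw [Nat.cast_one]
  exact_mod_cast h3

end Groth.Agent.AsympCoh18
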