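import Groth.Agent.Lib.AsympCoh18.Push
import Groth.Agent.Lib.AsympCoh18.Image
import Groth.Agent.Lib.CohFound.RelVan
import Groth.Agent.Lib.Ample18.Ample
import Groth.Agent.Lib.RelAmple18.Basic

/-!
# Asymptotic cohomology along a generically finite map
-/

set_option autoImplicit false
set_option linter.style.haveILetI false
set_option linter.unusedSectionVars false
set_option maxHeartbeats 800000
set_option backward.isDefEq.respectTransparency false

universe u

open CategoryTheory CategoryTheory.Limits AlgebraicGeometry TopologicalSpace Opposite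

namespace Groth.Agent.AsympCoh18

open Groth.Agent Growth13 CohFound

section Rank

variable {X Y : Scheme.{u}}

/-- The generic rank of `f_* M`, for `M` invertible, is the residue degree when only the generic point lies over it. -/
theorem finrank_push_of_fibre [IsIntegral X] [IsIntegral Y] (f : X ⟶ Y) [IsProper f]
    {M : X.Modules} (hM : PicF.IsInvertible M)
    (hξ : f (genericPoint X) = genericPoint Y) (hpre : ∀ x, f x = f (genericPoint X) → x = genericPoint X) :
    Module.finrank (Y.presheaf.stalk (f (genericPoint X)))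
      (((Scheme.Modules.pushforward f).obj M).presheaf.stalk (f (genericPoint X))) =
      f.residueDegree (genericPoint X) := by
  let ξ := genericPoint X
  let G := (Scheme.Modules.pushforward f).obj M
  letI : Algebra (Y.presheaf.stalk (f ξ)) (X.presheaf.stalk ξ) := (f.stalkMap ξ).hom.toAlgebra
  letI : Algebra (Y.residueField (f ξ)) (X.residueField ξ) := (f.residueFieldMap ξ).hom.toAlgebra
  have hKY : IsField (Y.presheaf.stalk (f ξ)) := by
    rw [hξ]; exact Field.toIsField Y.functionField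
  have hKX : IsField (X.presheaf.stalk ξ) := Field.toIsField X.functionField
  have bij : ∀ (Z : Scheme.{u}) (z : Z), IsField (Z.presheaf.stalk z) → Function.Bijective (Z.residue z) :=
    fun Z z h => ⟨by
      refine (injective_iff_map_eq_zero _).2 fun a ha => ?_
      by_contra hne
      have hu : IsUnit a := by
        letI := h.toField
        exact isUnit_iff_ne_zero.2 hne
      have h0 := hu.map (Z.residue z).hom
      rw [show (Z.residue z).hom a = 0 from ha] at h0
      exact not_isUnit_zero h0, IsLocalRing.residue_surjective⟩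
  have h1 : Module.finrank (Y.presheaf.stalk (f ξ)) (X.presheaf.stalk ξ) = f.residueDegree ξ :=
    Algebra.finrank_eq_of_equiv_equiv (RingEquiv.ofBijective (Y.residue (f ξ)).hom (bij _ _ hKY))
      (RingEquiv.ofBijective (X.residue ξ).hom (bij _ _ hKX))
      (RingHom.ext fun a => ConcreteCategory.congr_hom (Scheme.residue_residueFieldMap f ξ) a)
  rw [← h1]
  let q : G.presheaf.stalk (f ξ) →+ (M.presheaf.stalk ξ : Type u) :=
    (TopCat.Presheaf.stalkPushforward AddCommGrpCat.{u} f.base M.presheaf ξ).hom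
  have hq : ∀ (V : Y.Opens) (hV : f ξ ∈ V) (s : Γ(G, V)),
      q (G.presheaf.germ V (f ξ) hV s) = M.presheaf.germ (f ⁻¹ᵁ V) ξ hV s := fun V hV s =>
    ConcreteCategory.congr_hom (TopCat.Presheaf.stalkPushforward_germ AddCommGrpCat.{u} f.base
      M.presheaf V ξ hV) s
  have hsmall : ∀ W : X.Opens, ξ ∈ W → ∃ V : Y.Opens, f ξ ∈ V ∧ f ⁻¹ᵁ V ≤ W := fun W hW => by
    refine ⟨⟨(f '' (W : Set X)ᶜ)ᶜ, (f.isClosedMap _ W.isOpen.isClosed_compl).isOpen_compl⟩, ?_, ?_⟩
    · rintro ⟨x, hx, hfx⟩
      exact hx (hpre _ hfx ▸ hW)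
    · intro x hx
      by_contra hxW
      exact hx ⟨x, hxW, rfl⟩
  have hbij : Function.Bijective q := by
    refine ⟨(injective_iff_map_eq_zero q).2 fun a ha => ?_, fun b => ?_⟩
    · obtain ⟨V, hV, s, rfl⟩ := G.presheaf.exists_germ_eq a
      rw [hq] at ha
      obtain ⟨W, hW, i₁, i₂, he⟩ := M.presheaf.germ_eq ξ (U := f ⁻¹ᵁ V) (V := f ⁻¹ᵁ V) hV hV
        s 0 (ha.trans (map_zero _).symm)
      obtain ⟨V', hV', hle⟩ := hsmall W hW
      have h0 : M1.mres G (inf_le_left : V ⊓ V' ≤ V) s = 0 := by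
        have he' := he.trans (map_zero _)
        have := congrArg (M.presheaf.map
          (homOfLE ((f.preimage_mono (inf_le_right : V ⊓ V' ≤ V')).trans hle)).op) he'
        rw [map_zero, ← CategoryTheory.comp_apply, ← Functor.map_comp] at this
        exact this
      rw [← M1.germ_mres G (inf_le_left : V ⊓ V' ≤ V) ⟨hV, hV'⟩ s, h0, map_zero]
    · obtain ⟨W, hW, t, rfl⟩ := M.presheaf.exists_germ_eq b
      obtain ⟨V, hV, hle⟩ := hsmall W hW
      refine ⟨G.presheaf.germ V (f ξ) hV (M1.mres M hle t), ?_⟩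
      rw [hq]
      exact M1.germ_mres M hle hV t
  let ι : M.presheaf.stalk ξ ≃ₗ[X.presheaf.stalk ξ] (X.presheaf.stalk ξ : Type u) :=
    (CurveCoh17.nonempty_stalk_equiv ((M2.isInvertible_iff_isFinLocFreeOfRank_one M).1 hM) ξ).some.trans (LinearEquiv.funUnique (Fin 1) _ _)
  have hsmul : ∀ (c : Y.presheaf.stalk (f ξ)) (a : G.presheaf.stalk (f ξ)),
      q (c • a) = (f.stalkMap ξ c) • ((q a : M.presheaf.stalk ξ)) := by
    intro c a
    obtain ⟨U, hU, c, rfl⟩ := Y.presheaf.exists_germ_eq c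
    obtain ⟨V, hV, s, rfl⟩ := G.presheaf.exists_germ_eq a
    rw [← Y.presheaf.germ_res_apply (homOfLE (inf_le_left : U ⊓ V ≤ U)) (f ξ) ⟨hU, hV⟩ c,
      ← M1.germ_mres G (inf_le_right : U ⊓ V ≤ V) (x := f ξ) ⟨hU, hV⟩ s, ← M1.germ_smul, hq, hq,
      Scheme.Hom.germ_stalkMap_apply, ← M1.germ_smul]
    rfl
  let T : G.presheaf.stalk (f ξ) ≃ₗ[Y.presheaf.stalk (f ξ)] (X.presheaf.stalk ξ : Type u) :=
    { (AddEquiv.ofBijective q hbij).trans ι.toAddEquiv with
      map_smul' := fun c a => by
        show ι (q (c • a)) = f.stalkMap ξ c * ι (q a)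
        rw [hsmul, map_smul]
        rfl }
  exact T.finrank_eq


end Rank

/-- An invertible module on the source whose twists by pullbacks have no higher direct images. -/
theorem exists_acyclic {X Y : Scheme.{u}} (f : Y ⟶ X) [IsProper f] [IsNoetherian X] [IsNoetherian Y]
    {A : Y.Modules} (hA : CohB1.IsAmple A) :
    ∃ M : Y.Modules, PicF.IsInvertible M ∧ ∀ T : X.Modules, PicF.IsInvertible T → ∀ n : ℕ,
      ∃ B : Set (Opens (sp X)), Opens.IsBasis B ∧ PushAcyclicUpTo (f.base : sp Y ⟶ sp X) B n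
        ((abF Y).obj (CohB1.tensorMod M ((Scheme.Modules.pullback f).obj T))) := by
  obtain ⟨n₀, hn₀⟩ := exists_isZero_rpushAb f A hA.1 (fun W hW => by
      haveI : CompactSpace ((f ⁻¹ᵁ W : Y.Opens) : Scheme.{u}) :=
        isCompact_iff_compactSpace.mp (QuasiCompact.isCompact_preimage _ W.isOpen hW.isCompact)
      exact (RA.isAmple_restrict_iff_pullback (f ⁻¹ᵁ W).ι).2
        (Amp.isAmple_pullback_of_isInducing _ (f ⁻¹ᵁ W).ι.isOpenEmbedding.isInducing hA))
    (M1.isCoh_structureModule Y)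
  let M := CohB1.tensorMod (Coh.structureModule Y) (CohB1.tensorPow A n₀)
  have hM : PicF.IsInvertible M :=
    M2.isInvertible_tensor (PicLoc.isInvertible_structureModule Y) (M2.isInvertible_tensorPow hA.1 n₀)
  refine ⟨M, hM, fun T hT n => ⟨{V : X.Opens | IsAffineOpen V ∧
    Nonempty (T.restrict V.ι ≅ Coh.structureModule V.toScheme)}, ?_, ?_⟩⟩
  · refine Opens.isBasis_iff_nbhd.2 fun {U x} hx => ?_
    obtain ⟨V, hxV, ⟨e⟩⟩ := hT x
    obtain ⟨W, hW, hxW, hWU⟩ := exists_isAffineOpen_mem_and_subset (U := (U : X.Opens) ⊓ V) (x := x) ⟨hx, hxV⟩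
    exact ⟨W, ⟨hW, M2.nonempty_trivial_mono (hWU.trans inf_le_right) e⟩, hxW, hWU.trans inf_le_left⟩
  · rintro q - V ⟨hV, ⟨eT⟩⟩
    have hMq : Coh.IsQCoh M := Twist.isQCoh_of_isInvertible hM
    obtain ⟨e⟩ := nonempty_sections_rpushAb f hMq (q + 1) hV
    have hz : IsZero ((CohTop.Rpush (f.base : sp Y ⟶ sp X) (q + 1)).obj ((abF Y).obj M)) :=
      hn₀ n₀ le_rfl (q + 1) q.succ_pos
    haveI : Subsingleton (((CohTop.Rpush (f.base : sp Y ⟶ sp X) (q + 1)).obj ((abF Y).obj M)).obj.obj (op V)) := by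
      refine AddCommGrpCat.subsingleton_of_isZero ?_
      exact (((sheafToPresheaf _ _) ⋙ (evaluation _ _).obj (op V)).map_isZero hz)
    have h1 : Subsingleton (Hc ((abF Y).obj M) (q + 1) ((Opens.map (f.base : sp Y ⟶ sp X)).obj V)) :=
      e.symm.toEquiv.subsingleton
    let W : Y.Opens := f ⁻¹ᵁ V
    obtain ⟨a⟩ := nonempty_hc_abF_restrict W.ι M (q + 1) ⊤
    obtain ⟨b⟩ := nonempty_hc_abF_restrict W.ι (CohB1.tensorMod M ((Scheme.Modules.pullback f).obj T)) (q + 1) ⊤
    rw [M1.image_ι_top] at a b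
    haveI : Subsingleton (Hc ((abF (W : Scheme.{u})).obj (M.restrict W.ι)) (q + 1) ⊤) :=
      @Equiv.subsingleton _ _ a.toEquiv h1
    obtain ⟨t⟩ := nonempty_trivial_pullback f eT
    let i : (CohB1.tensorMod M ((Scheme.Modules.pullback f).obj T)).restrict W.ι ≅ M.restrict W.ι :=
      M2.restrictTensorIso W.ι M _ ≪≫ M2.tensorIso (Iso.refl _) t ≪≫ M2.tensorRUnit _
    exact @Equiv.subsingleton _ _ b.symm.toEquiv (subsingleton_hc_of_iso i.symm (q + 1) ⊤ inferInstance)

variable {k : Type u} [Field k] {X Y : Scheme.{u}} [X.Over (Spec (CommRingCat.of k))]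
  [Y.Over (Spec (CommRingCat.of k))] [IsIntegral X] [IsIntegral Y] [IsProper (X ↘ Spec (CommRingCat.of k))]
  [IsProper (Y ↘ Spec (CommRingCat.of k))]

/-- Asymptotic cohomology is multiplied by the degree. -/
theorem hhat_pullback_genFinite (f : Y ⟶ X)
    (hf : f ≫ (X ↘ Spec (CommRingCat.of k)) = Y ↘ Spec (CommRingCat.of k))
    (hdom : f (genericPoint Y) = genericPoint X) {d : ℕ} (hd : f.residueDegree (genericPoint Y) = d) (hd0 : 0 < d)
    {A : Y.Modules} (hA : CohB1.IsAmple A) {n : ℕ} (hn : topologicalKrullDim X = (n : WithBot ℕ∞))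
    {L : X.Modules} (hL : PicF.IsInvertible L) (i : ℕ) :
    W4c5asymptcohfn.hhat k Y n i ((Scheme.Modules.pullback f).obj L) =
      (d : ℝ) * W4c5asymptcohfn.hhat k X n i L := by
  haveI : IsProper (f ≫ (X ↘ Spec (CommRingCat.of k))) := by rw [hf]; infer_instance
  haveI : IsProper f := IsProper.of_comp f (X ↘ Spec (CommRingCat.of k))
  haveI : IsNoetherian X := CohFound.isNoetherian_of_isProper (X ↘ (Spec (CommRingCat.of k)))
  haveI : IsNoetherian Y := CohFound.isNoetherian_of_isProper (Y ↘ (Spec (CommRingCat.of k)))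
  have hnY : topologicalKrullDim Y ≤ (n : WithBot ℕ∞) :=
    ((NumPoly18.dim_eq_of_residueDegree_pos f hf hdom (by omega)).trans hn).le
  have hL' : PicF.IsInvertible ((Scheme.Modules.pullback f).obj L) := PicLoc.isInvertible_pullback f hL
  obtain ⟨M, hM, hac⟩ := exists_acyclic f hA
  have hr : Module.finrank (X.presheaf.stalk (genericPoint X))
      (((Scheme.Modules.pushforward f).obj M).presheaf.stalk (genericPoint X)) = d := by
    have h := finrank_push_of_fibre f hM hdom (fun y hy => eq_genericPoint_of_map_eq f hf hdom (by omega) hy)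
    rw [hd, hdom] at h
    exact h
  rw [← hhatF_eq_rank_mul hn.le (NumPoly18.isCoh_push_proper (k := k) f (Snapper.isCoh_of_isInvertible hM)) hr hL i]
  trans W4c5asymptcohfn.hhatF k Y n i M ((Scheme.Modules.pullback f).obj L)
  · rw [← hhatF_eq_of_close hnY (Snapper.isCoh_of_isInvertible hM) hL'
      (fun F hF hstep => close_invertible (fun _ => hL') hF hstep hnY hM) i]
    unfold W4c5asymptcohfn.hhat W4c5asymptcohfn.hhatF
    congr 1
    funext m
    show _ = (hdim k _ i : ℝ) * _ / _
    rw [hdim_iso k (M2.tensorLUnit _) i]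
    rfl
  · unfold W4c5asymptcohfn.hhatF
    congr 1
    funext m
    show (hdim k _ i : ℝ) * _ / _ = (hdim k _ i : ℝ) * _ / _
    have hT := M2.isInvertible_tensorPow hL m
    obtain ⟨B, hB, hBac⟩ := hac _ hT i
    rw [hdim_push_tensor f hf hB M hT i hBac,
      hdim_iso k (M2.tensorIso (Iso.refl M) (M2.pullTensorPowIso f L m)) i]

end Groth.Agent.AsympCoh18
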