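import Groth.Agent.Lib.AsympCoh18.Family
import Mathlib.Analysis.SpecificLimits.Basic
import Mathlib.Topology.Algebra.Order.LiminfLimsup

/-!
# Asymptotic cohomology in a family of twists
-/

set_option autoImplicit false
set_option linter.style.haveILetI false
set_option linter.unusedSectionVars false
set_option backward.isDefEq.respectTransparency false
set_option backward.isDefEq.respectTransparency.types false

universe u

open CategoryTheory CategoryTheory.Limits AlgebraicGeometry TopologicalSpace Filter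

namespace Groth.Agent.AsympCoh18

open Groth.Agent Growth13 W4c5asymptcohfn

/-- Sequences at distance eventually at most `e m → c` have limit superiors at distance at most `c`. -/
theorem abs_limsup_sub_le {s t e : ℕ → ℝ} {c B : ℝ} (ht0 : ∀ᶠ m in atTop, 0 ≤ t m) (ht : ∀ᶠ m in atTop, t m ≤ B)
    (h : ∀ᶠ m in atTop, |s m - t m| ≤ e m) (he : Tendsto e atTop (nhds c)) :
    |limsup s atTop - limsup t atTop| ≤ c := by
  have hec : ∀ ε > 0, ∀ᶠ m in atTop, |s m - t m| ≤ c + ε := fun ε hε => by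
    filter_upwards [h, he.eventually (Iio_mem_nhds (lt_add_of_pos_right c hε))] with m h1 h2
    exact h1.trans h2.le
  have hs : IsBoundedUnder (· ≤ ·) atTop s := isBoundedUnder_of_eventually_le (a := B + (c + 1)) (by
    filter_upwards [ht, hec 1 one_pos] with m h1 h2
    linarith [(abs_le.1 h2).2])
  have hs' : IsBoundedUnder (· ≥ ·) atTop s := isBoundedUnder_of_eventually_ge (a := -(c + 1)) (by
    filter_upwards [ht0, hec 1 one_pos] with m h1 h2
    linarith [(abs_le.1 h2).1])
  have htb : IsBoundedUnder (· ≤ ·) atTop t := isBoundedUnder_of_eventually_le ht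
  have htb' : IsBoundedUnder (· ≥ ·) atTop t := isBoundedUnder_of_eventually_ge ht0
  refine abs_sub_le_iff.2 ⟨?_, ?_⟩
  · refine sub_le_iff_le_add.2 (le_of_forall_pos_le_add fun ε hε => ?_)
    refine limsup_le_of_le hs'.isCoboundedUnder_le ?_
    filter_upwards [hec (ε / 2) (half_pos hε),
      eventually_lt_of_limsup_lt (lt_add_of_pos_right (limsup t atTop) (half_pos hε)) htb] with m h1 h2
    linarith [(abs_le.1 h1).2]
  · refine sub_le_iff_le_add.2 (le_of_forall_pos_le_add fun ε hε => ?_)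
    refine limsup_le_of_le htb'.isCoboundedUnder_le ?_
    filter_upwards [hec (ε / 2) (half_pos hε),
      eventually_lt_of_limsup_lt (lt_add_of_pos_right (limsup s atTop) (half_pos hε)) hs] with m h1 h2
    linarith [(abs_le.1 h1).1]

/-- The error term of degree `n - 1` is negligible against `m ^ n`. -/
theorem tendsto_err (n C : ℕ) (h : n = 0 → C = 0) (d : ℕ) :
    Tendsto (fun m : ℕ => (C : ℝ) * ((m : ℝ) + d) ^ (n - 1) * (n.factorial : ℝ) / (m : ℝ) ^ n) atTop (nhds 0) := by
  rcases n with _ | e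
  · simp [h rfl]
  have h1 : Tendsto (fun m : ℕ => (1 + (d : ℝ) / m) ^ e * (1 / (m : ℝ)) * ((C : ℝ) * ((e + 1).factorial : ℝ)))
      atTop (nhds ((1 + 0) ^ e * 0 * ((C : ℝ) * ((e + 1).factorial : ℝ)))) :=
    (((tendsto_const_nhds.add (tendsto_const_div_atTop_nhds_zero_nat (d : ℝ))).pow e).mul
      (tendsto_const_div_atTop_nhds_zero_nat (1 : ℝ))).mul tendsto_const_nhds
  rw [mul_zero, zero_mul] at h1
  refine h1.congr' ?_
  filter_upwards [eventually_gt_atTop 0] with m hm
  have hm' : (m : ℝ) ≠ 0 := by exact_mod_cast hm.ne'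
  rw [Nat.add_sub_cancel, one_add_div hm', div_pow, pow_succ]
  field_simp

variable {k : Type u} [Field k] {X : Scheme.{u}} [X.Over (Spec (CommRingCat.of k))]
  [IsProper (X ↘ Spec (CommRingCat.of k))] {r : ℕ}

variable (k) in
/-- The dimension of the cohomology of `L^a`. -/
noncomputable def g (F : (Fin r → ℤ) → X.Modules) (i : ℕ) (a : Fin r → ℤ) : ℕ :=
  hdim k (CohB1.tensorMod (Coh.structureModule X) (F a)) i

section family

variable {L : Fin r → X.Modules} {F : (Fin r → ℤ) → X.Modules} (hL : ∀ j, PicF.IsInvertible (L j))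
  (hF : ∀ a, PicF.IsInvertible (F a))
  (hstep : ∀ a j, Nonempty (F (a + Pi.single j 1) ≅ CohB1.tensorMod (F a) (L j)))
  {n : ℕ} (hn : topologicalKrullDim X ≤ (n : WithBot ℕ∞))

include hL hF hstep hn in
/-- Nearby twists have close cohomology. -/
theorem exists_lipschitz [IsIntegral X] : ∃ D : ℕ, (n = 0 → D = 0) ∧ ∀ i a b,
    |(g k F i a : ℤ) - g k F i b| ≤ (D : ℤ) * wt (b - a) * ((wt a + wt (b - a) + 1 : ℕ) : ℤ) ^ (n - 1) := by
  have hj : ∀ j, Close k F n (Coh.structureModule X) (L j) := fun j => close_invertible hL hF hstep hn (hL j)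
  choose C hC0 hC using hj
  refine ⟨∑ j, C j, fun h => Finset.sum_eq_zero fun j _ => hC0 j h, fun i => ?_⟩
  have step : ∀ c j, |(g k F i (c + Pi.single j 1) : ℤ) - g k F i c| ≤
      ((∑ j, C j : ℕ) : ℤ) * ((wt c + 1 : ℕ) : ℤ) ^ (n - 1) := fun c j => by
    obtain ⟨f⟩ := hstep c j
    have e : g k F i (c + Pi.single j 1) = hdim k (CohB1.tensorMod (L j) (F c)) i :=
      hdim_iso k (M2.tensorLUnit _ ≪≫ f ≪≫ M2.tensorComm _ _) i
    obtain ⟨h1, h2⟩ := hC j i c
    have h3 : C j * (wt c + 1) ^ (n - 1) ≤ (∑ j, C j) * (wt c + 1) ^ (n - 1) :=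
      Nat.mul_le_mul_right _ (Finset.single_le_sum (fun l _ => Nat.zero_le (C l)) (Finset.mem_univ j))
    rw [e, abs_sub_le_iff]
    change hdim k (CohB1.tensorMod (L j) (F c)) i ≤ g k F i c + _ at h2
    change g k F i c ≤ hdim k (CohB1.tensorMod (L j) (F c)) i + _ at h1
    constructor <;> push_cast at h3 ⊢ <;>
    [have := h2.trans (Nat.add_le_add_left h3 _); have := h1.trans (Nat.add_le_add_left h3 _)] <;>
    · zify at this
      linarith
  suffices ∀ (q : ℕ) (a b : Fin r → ℤ), wt (b - a) = q →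
      |(g k F i a : ℤ) - g k F i b| ≤ ((∑ j, C j : ℕ) : ℤ) * q * ((wt a + q + 1 : ℕ) : ℤ) ^ (n - 1) from
    fun a b => this _ a b rfl
  intro q
  induction q with
  | zero =>
    intro a b hb
    have : b = a := funext fun j => sub_eq_zero.1 (by
      simpa [Int.natAbs_eq_zero] using Finset.sum_eq_zero_iff.1 hb j (Finset.mem_univ j))
    simp [this]
  | succ q ih =>
    intro a b hb
    obtain ⟨j, -, hj⟩ := Finset.exists_ne_zero_of_sum_ne_zero (hb.trans_ne (Nat.succ_ne_zero q))
    simp only [Pi.sub_apply, ne_eq, Int.natAbs_eq_zero] at hj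
    have hsplit : ∀ c d : Fin r → ℤ, (∀ i, i ≠ j → c i = d i) → wt c + (d j).natAbs = wt d + (c j).natAbs := by
      intro c d hcd
      simp only [wt, ← Finset.add_sum_erase Finset.univ _ (Finset.mem_univ j)]
      rw [Finset.sum_congr rfl fun i hi => by rw [hcd i (Finset.ne_of_mem_erase hi)]]
      omega
    have htri : ∀ c : Fin r → ℤ, wt c ≤ wt a + wt (c - a) := fun c => by
      simp only [wt, ← Finset.sum_add_distrib]
      exact Finset.sum_le_sum fun l _ => by simp only [Pi.sub_apply]; omega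
    have key : ∀ (c : Fin r → ℤ), wt (c - a) = q → ∀ w : Fin r → ℤ,
        |(g k F i c : ℤ) - g k F i b| ≤ ((∑ j, C j : ℕ) : ℤ) * ((wt w + 1 : ℕ) : ℤ) ^ (n - 1) →
        wt w ≤ wt a + (q + 1) →
        |(g k F i a : ℤ) - g k F i b| ≤
          ((∑ j, C j : ℕ) : ℤ) * (q + 1 : ℕ) * ((wt a + (q + 1) + 1 : ℕ) : ℤ) ^ (n - 1) := by
      intro c hc w hcb hw
      have h1 := ih a c hc
      have h2 : ((wt a + q + 1 : ℕ) : ℤ) ^ (n - 1) ≤ ((wt a + (q + 1) + 1 : ℕ) : ℤ) ^ (n - 1) :=
        pow_le_pow_left₀ (by positivity) (by omega) _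
      have h3 : ((wt w + 1 : ℕ) : ℤ) ^ (n - 1) ≤ ((wt a + (q + 1) + 1 : ℕ) : ℤ) ^ (n - 1) :=
        pow_le_pow_left₀ (by positivity) (by omega) _
      have hD : (0 : ℤ) ≤ ((∑ j, C j : ℕ) : ℤ) := by positivity
      have h4 := abs_sub_le (g k F i a : ℤ) (g k F i c) (g k F i b)
      have h5 := mul_le_mul_of_nonneg_left h2 (mul_nonneg hD (Int.natCast_nonneg q))
      have h6 := mul_le_mul_of_nonneg_left h3 hD
      push_cast at h1 h4 h5 h6 hcb ⊢
      linarith
    rcases lt_or_gt_of_ne hj with hneg | hpos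
    · let c := b + Pi.single j 1
      have h := hsplit (c - a) (b - a) fun i hi => by simp [c, hi]
      simp only [c, Pi.sub_apply, Pi.add_apply, Pi.single_eq_same] at h
      refine key c (by simp only [c]; omega) b (step b j) ?_
      have := htri b
      omega
    · let c := b - Pi.single j 1
      have h := hsplit (c - a) (b - a) fun i hi => by simp [c, hi]
      simp only [c, Pi.sub_apply, Pi.single_eq_same] at h
      have hc : wt (c - a) = q := by simp only [c]; omega
      refine key c hc c ?_ ?_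
      · have := step c j
        rwa [show c + Pi.single j 1 = b from sub_add_cancel b _, abs_sub_comm] at this
      · have := htri c
        omega

include hL hF hstep hn in
/-- The cohomology of the multiples of a twist is bounded by a multiple of `m ^ n`. -/
theorem exists_g_bound : ∃ C : ℕ, ∀ i a, g k F i a ≤ C * (wt a + 1) ^ n := by
  obtain ⟨C, hC⟩ := bdd k hL hF hstep n (Coh.structureModule X) (M1.isCoh_structureModule X) (dim_support_le hn _)
  exact ⟨C, hC⟩

end family

variable {L M : Fin r → X.Modules} (hL : ∀ j, PicF.IsInvertible (L j)) (hM : ∀ j, ClSub.IsInverseOf (L j) (M j))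
  {n : ℕ} (hn : topologicalKrullDim X ≤ (n : WithBot ℕ∞))

theorem wt_smul (m : ℕ) (a : Fin r → ℤ) : wt ((m : ℤ) • a) = m * wt a := by
  simp [wt, Finset.mul_sum, Int.natAbs_mul]

theorem hdim_ztwist_pow (a : Fin r → ℤ) (i m : ℕ) :
    Module.finrank k (Coh.HH X (CohB1.tensorPow (ztwist X L M a) m) i) = g k (ztwist X L M) i ((m : ℤ) • a) := by
  obtain ⟨e⟩ := ztwist_pow (L := L) (M := M) a m
  exact hdim_iso k (e ≪≫ (M2.tensorLUnit _).symm) i

include hL hM hn in
/-- The asymptotic cohomology of integral twists is Lipschitz. -/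
theorem exists_hhat_lipschitz [IsIntegral X] : ∃ D : ℕ, (n = 0 → D = 0) ∧ ∀ i a b,
    |hhat k X n i (ztwist X L M a) - hhat k X n i (ztwist X L M b)| ≤
      (D : ℝ) * wt (b - a) * ((wt a + wt (b - a) + 1 : ℕ) : ℝ) ^ (n - 1) := by
  have hF := isInvertible_ztwist hL hM
  obtain ⟨D, hD0, hD⟩ := exists_lipschitz (k := k) hL hF (ztwist_step hM) hn
  obtain ⟨C, hC⟩ := exists_g_bound (k := k) hL hF (ztwist_step hM) hn
  refine ⟨n.factorial * D, fun h => by simp [hD0 h], fun i a b => ?_⟩
  refine abs_limsup_sub_le (B := (C : ℝ) * ((wt b + 1 : ℕ) : ℝ) ^ n * n.factorial)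
    (Eventually.of_forall fun m => by positivity) ?_ ?_ tendsto_const_nhds
  · filter_upwards [eventually_gt_atTop 0] with m hm
    have hm' : (0 : ℝ) < m := by exact_mod_cast hm
    rw [hdim_ztwist_pow, div_le_iff₀ (pow_pos hm' n)]
    have h1 : g k (ztwist X L M) i ((m : ℤ) • b) ≤ C * ((wt b + 1) * m) ^ n :=
      (hC i _).trans (Nat.mul_le_mul_left _ (Nat.pow_le_pow_left (by rw [wt_smul]; nlinarith) _))
    have h2 : (g k (ztwist X L M) i ((m : ℤ) • b) : ℝ) ≤ (C * ((wt b + 1) * m) ^ n : ℕ) := by exact_mod_cast h1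
    push_cast at h2 ⊢
    rw [mul_pow] at h2
    have h3 : (0 : ℝ) ≤ n.factorial := by positivity
    nlinarith [mul_le_mul_of_nonneg_right h2 h3]
  · filter_upwards [eventually_gt_atTop 0] with m hm
    have hm' : (0 : ℝ) < m := by exact_mod_cast hm
    rw [hdim_ztwist_pow, hdim_ztwist_pow, ← sub_div, abs_div, abs_of_pos (pow_pos hm' n),
      div_le_iff₀ (pow_pos hm' n), ← sub_mul, abs_mul, Nat.abs_cast n.factorial]
    rcases n with _ | e
    · have h := hD i ((m : ℤ) • a) ((m : ℤ) • b)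
      simp only [hD0 rfl, Nat.cast_zero, zero_mul] at h
      have : (g k (ztwist X L M) i ((m : ℤ) • a) : ℤ) = g k (ztwist X L M) i ((m : ℤ) • b) :=
        sub_eq_zero.1 (abs_nonpos_iff.1 h)
      have h' : g k (ztwist X L M) i ((m : ℤ) • a) = g k (ztwist X L M) i ((m : ℤ) • b) := by exact_mod_cast this
      rw [h', sub_self, abs_zero, zero_mul]; positivity
    have h := hD i ((m : ℤ) • a) ((m : ℤ) • b)
    rw [← smul_sub, wt_smul, wt_smul, Nat.add_sub_cancel] at h
    have hle : (m * wt a + m * wt (b - a) + 1) ^ e ≤ (m * (wt a + wt (b - a) + 1)) ^ e :=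
      Nat.pow_le_pow_left (by nlinarith) _
    have h' : |(g k (ztwist X L M) i ((m : ℤ) • a) : ℝ) - g k (ztwist X L M) i ((m : ℤ) • b)| ≤
        (D : ℝ) * ((m * wt (b - a) : ℕ) : ℝ) * ((m * wt a + m * wt (b - a) + 1 : ℕ) : ℝ) ^ e := by
      exact_mod_cast h
    have hle' : ((m * wt a + m * wt (b - a) + 1 : ℕ) : ℝ) ^ e ≤
        (m : ℝ) ^ e * ((wt a + wt (b - a) + 1 : ℕ) : ℝ) ^ e := by
      rw [← mul_pow]
      exact_mod_cast hle
    rw [Nat.add_sub_cancel]
    have h3 : (0 : ℝ) ≤ (e + 1).factorial := by positivity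
    have h4 : (0 : ℝ) ≤ (D : ℝ) * ((m * wt (b - a) : ℕ) : ℝ) := by positivity
    refine (mul_le_mul_of_nonneg_right (h'.trans (mul_le_mul_of_nonneg_left hle' h4)) h3).trans_eq ?_
    push_cast
    ring

end Groth.Agent.AsympCoh18
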