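import Groth.Agent.Lib.AsympCoh18.Single
import Groth.Agent.Lib.AmpleFin18.PushEuler
import Groth.Agent.Lib.CohMop.Bidual
import Groth.Agent.Lib.NumPoly18.PushDeg
import Groth.Agent.Lib.TensorMod.PullTensor
import Groth.Prelude.Def_EGA4Misc

/-!
# Cohomology of twists along a generically finite map
-/

set_option autoImplicit false
set_option linter.style.haveILetI false
set_option linter.unusedSectionVars false
set_option backward.isDefEq.respectTransparency false
set_option backward.isDefEq.respectTransparency.types false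

universe u

open CategoryTheory CategoryTheory.Limits AlgebraicGeometry TopologicalSpace Opposite

namespace Groth.Agent.AsympCoh18

open Groth.Agent Growth13 CohFound

variable {k : Type u} [Field k] {X Y : Scheme.{u}} [X.Over (Spec (CommRingCat.of k))]
  [Y.Over (Spec (CommRingCat.of k))]

/-- Cohomology of a direct image without higher direct images over a basis, linearly over the base. -/
theorem nonempty_HH_push_of_acyclic (f : Y ⟶ X)
    (hf : f ≫ (X ↘ Spec (CommRingCat.of k)) = Y ↘ Spec (CommRingCat.of k))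
    {B : Set (Opens (sp X))} (hB : Opens.IsBasis B) (M : Y.Modules) (n : ℕ)
    (hac : PushAcyclicUpTo (f.base : sp Y ⟶ sp X) B n ((abF Y).obj M)) :
    Nonempty (Coh.HH X ((Scheme.Modules.pushforward f).obj M) n ≃ₗ[k] Coh.HH Y M n) := by
  let φ : k →+* Γ(X, ⊤) := Coh.toGlobal (X ↘ Spec (CommRingCat.of k))
  let ψ : k →+* Γ(Y, ⊤) := Coh.toGlobal (Y ↘ Spec (CommRingCat.of k))
  have hψ : ∀ a, f.appTop (φ a) = ψ a := fun a => by
    have h := ConcreteCategory.congr_hom (congrArg Scheme.Hom.appTop hf)
      ((Scheme.ΓSpecIso (CommRingCat.of k)).inv a)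
    exact h
  obtain ⟨ε, hε⟩ := exists_hc_push_commute (f.base : sp Y ⟶ sp X) hB n ((abF Y).obj M) hac ⊤
  let T := (mpEquiv (abFPushIso f M) n ⊤).trans ε
  have hT : ∀ a x, T (gMul ((Scheme.Modules.pushforward f).obj M) (φ a) n ⊤ x) = gMul M (ψ a) n ⊤ (T x) := fun a x => by
    rw [← hψ a]
    exact trans_commute (abFPushIso f M) n ⊤ ε _ _ _ (abFPushIso_gEnd f M (φ a)) (hε (gEnd M (f.appTop (φ a)))) x
  let E : Coh.HH X ((Scheme.Modules.pushforward f).obj M) n ≃+ Coh.HH Y M n :=
    (hhExt _ n).trans (T.trans (hhExt M n).symm)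
  refine ⟨{ E with map_smul' := fun a x => ?_ }⟩
  show E (a • x) = a • E x
  apply (hhExt M n).injective
  simp only [E, AddEquiv.trans_apply, AddEquiv.apply_symm_apply]
  have h1 : hhExt ((Scheme.Modules.pushforward f).obj M) n (a • x) =
      gMul ((Scheme.Modules.pushforward f).obj M) (φ a) n ⊤ (hhExt _ n x) :=
    hExt_map (gEnd _ (φ a)) n x
  have h2 : hhExt M n (a • (hhExt M n).symm (T (hhExt _ n x))) =
      gMul M (ψ a) n ⊤ (hhExt M n ((hhExt M n).symm (T (hhExt _ n x)))) :=
    hExt_map (gEnd M (ψ a)) n _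
  refine (congrArg (fun z => hhExt M n ((hhExt M n).symm (T z))) h1).trans ?_
  exact ((hhExt M n).apply_symm_apply _).trans ((hT a _).trans
    (h2.trans (congrArg (gMul M (ψ a) n ⊤) ((hhExt M n).apply_symm_apply _))).symm)

/-- The twist of a direct image by an invertible module has the cohomology of the twist upstairs. -/
theorem hdim_push_tensor (f : Y ⟶ X) (hf : f ≫ (X ↘ Spec (CommRingCat.of k)) = Y ↘ Spec (CommRingCat.of k))
    {B : Set (Opens (sp X))} (hB : Opens.IsBasis B) (M : Y.Modules) {T : X.Modules} (hT : PicF.IsInvertible T)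
    (n : ℕ) (hac : PushAcyclicUpTo (f.base : sp Y ⟶ sp X) B n
      ((abF Y).obj (CohB1.tensorMod M ((Scheme.Modules.pullback f).obj T)))) :
    hdim k (CohB1.tensorMod ((Scheme.Modules.pushforward f).obj M) T) n =
      hdim k (CohB1.tensorMod M ((Scheme.Modules.pullback f).obj T)) n := by
  obtain ⟨e⟩ := nonempty_HH_push_of_acyclic (k := k) f hf hB _ n hac
  exact (hdim_iso k ((CohMop.pushTenIso f T (M2.isFinLocFree_of_isInvertible hT)).app M) n).trans e.finrank_eq

/-- Global sections of a twist of `f_* O`. -/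
theorem hdim_push_unit_zero (f : Y ⟶ X) (hf : f ≫ (X ↘ Spec (CommRingCat.of k)) = Y ↘ Spec (CommRingCat.of k))
    {T : X.Modules} (hT : PicF.IsInvertible T) :
    hdim k (CohB1.tensorMod ((Scheme.Modules.pushforward f).obj (Coh.structureModule Y)) T) 0 =
      hdim k ((Scheme.Modules.pullback f).obj T) 0 :=
  (hdim_push_tensor f hf X.isBasis_affineOpens _ hT 0 (fun q hq => absurd hq (Nat.not_lt_zero q))).trans
    (hdim_iso k (M2.tensorLUnit _) 0)

variable [IsIntegral X] [IsIntegral Y] [IsProper (X ↘ Spec (CommRingCat.of k))]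
  [IsProper (Y ↘ Spec (CommRingCat.of k))]

/-- Only the generic point lies over the generic point of a generically finite map. -/
theorem eq_genericPoint_of_map_eq (f : Y ⟶ X) (hf : f ≫ (X ↘ Spec (CommRingCat.of k)) = Y ↘ Spec (CommRingCat.of k))
    (hdom : f (genericPoint Y) = genericPoint X) (hn : f.residueDegree (genericPoint Y) ≠ 0) {y : Y}
    (hy : f y = f (genericPoint Y)) : y = genericPoint Y := by
  obtain ⟨r, hr⟩ : ∃ r : ℕ, topologicalKrullDim Y = (r : WithBot ℕ∞) :=
    ⟨_, VarDim.dim_eq_sdim_genericPoint (Y ↘ Spec (CommRingCat.of k))⟩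
  haveI : IsProper (f ≫ (X ↘ Spec (CommRingCat.of k))) := by rw [hf]; infer_instance
  haveI : IsProper f := IsProper.of_comp f (X ↘ Spec (CommRingCat.of k))
  haveI : IsNoetherian X := CohFound.isNoetherian_of_isProper (X ↘ (Spec (CommRingCat.of k)))
  haveI : IsNoetherian Y := CohFound.isNoetherian_of_isProper (Y ↘ (Spec (CommRingCat.of k)))
  have hXd : topologicalKrullDim X = (r : WithBot ℕ∞) :=
    (NumPoly18.dim_eq_of_residueDegree_pos f hf hdom hn).symm.trans hr
  have h1 := NumPoly18.dim_closure_image_le f (Z := closure ({y} : Set Y)) isClosed_closure (subset_closure rfl)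
  rw [hy, hdom, genericPoint_closure, (Homeomorph.Set.univ X).isHomeomorph.topologicalKrullDim_eq, hXd] at h1
  exact (NumPoly18.eq_of_specializes_of_dim isClosed_univ ((Topology.IsInducing.subtypeVal.topologicalKrullDim_le).trans
    hr.le) trivial (le_antisymm ((Snapper.dim_le_of_subset (Set.subset_univ _) le_rfl).trans
      ((Topology.IsInducing.subtypeVal.topologicalKrullDim_le).trans hr.le)) h1) (genericPoint_specializes y)).symm

/-- The generic rank of `f_* O` is the degree. -/
theorem finrank_pushO (f : Y ⟶ X) (hf : f ≫ (X ↘ Spec (CommRingCat.of k)) = Y ↘ Spec (CommRingCat.of k))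
    (hdom : f (genericPoint Y) = genericPoint X) {n : ℕ} (hn : f.residueDegree (genericPoint Y) = n) (hn0 : 0 < n) :
    Module.finrank (X.presheaf.stalk (genericPoint X))
      (((Scheme.Modules.pushforward f).obj (Coh.structureModule Y)).presheaf.stalk (genericPoint X)) = n := by
  haveI : IsProper (f ≫ (X ↘ Spec (CommRingCat.of k))) := by rw [hf]; infer_instance
  haveI : IsProper f := IsProper.of_comp f (X ↘ Spec (CommRingCat.of k))
  have h := NumPoly18.finrank_pushO_of_fibre f hdom
    (fun y hy => eq_genericPoint_of_map_eq f hf hdom (by omega) hy)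
  rw [hn, hdom] at h
  exact h

end Groth.Agent.AsympCoh18

namespace Groth.Agent.AsympCoh18

open Groth.Agent Growth13 CohFound

variable {k : Type u} [Field k] {X Y : Scheme.{u}} [X.Over (Spec (CommRingCat.of k))]
  [Y.Over (Spec (CommRingCat.of k))] [IsIntegral X] [IsIntegral Y] [IsProper (X ↘ Spec (CommRingCat.of k))]
  [IsProper (Y ↘ Spec (CommRingCat.of k))]

/-- Sections of powers of a pullback along a map of degree `n`. -/
theorem exists_h0_pullback_bound (f : Y ⟶ X)
    (hf : f ≫ (X ↘ Spec (CommRingCat.of k)) = Y ↘ Spec (CommRingCat.of k))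
    (hdom : f (genericPoint Y) = genericPoint X) {n : ℕ} (hn : f.residueDegree (genericPoint Y) = n) (hn0 : 0 < n)
    {d : ℕ} (hd : topologicalKrullDim X ≤ (d : WithBot ℕ∞)) {L : X.Modules} (hL : PicF.IsInvertible L) :
    ∃ C : ℕ, (d = 0 → C = 0) ∧ ∀ m : ℕ,
      |(Module.finrank k (Coh.HH Y (CohB1.tensorPow ((Scheme.Modules.pullback f).obj L) m) 0) : ℝ) -
        n * Module.finrank k (Coh.HH X (CohB1.tensorPow L m) 0)| ≤ (C : ℝ) * ((m : ℝ) + 1) ^ (d - 1) := by
  haveI : IsProper (f ≫ (X ↘ Spec (CommRingCat.of k))) := by rw [hf]; infer_instance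
  haveI : IsProper f := IsProper.of_comp f (X ↘ Spec (CommRingCat.of k))
  obtain ⟨F, hF, hstep, hpow⟩ := exists_family hL
  have hP := NumPoly18.isCoh_push_proper (k := k) f (M1.isCoh_structureModule Y)
  obtain ⟨C, hC0, hC⟩ := close_free (k := k) (L := fun _ : Fin 1 => L) (fun _ => hL) hF hstep hd hP
  rw [finrank_pushO f hf hdom hn hn0] at hC
  refine ⟨C, hC0, fun m => ?_⟩
  obtain ⟨e⟩ := hpow m
  have hT := M2.isInvertible_tensorPow hL m
  obtain ⟨h1, h2⟩ := hC 0 (fun _ => (m : ℤ))
  rw [hdim_iso k (M2.tensorIso (Iso.refl ((Scheme.Modules.pushforward f).obj (Coh.structureModule Y))) e) 0,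
    hdim_iso k (M2.tensorIso (Iso.refl (FlatMod.freeMod X n)) e) 0,
    hdim_freeMod_tensor (Snapper.isCoh_of_isInvertible hT), hdim_push_unit_zero f hf hT,
    hdim_iso k (M2.pullTensorPowIso f L m) 0, wt_const] at h1 h2
  have h1' : (hdim k (CohB1.tensorPow ((Scheme.Modules.pullback f).obj L) m) 0 : ℝ) ≤
      n * (hdim k (CohB1.tensorPow L m) 0 : ℝ) + (C : ℝ) * ((m : ℝ) + 1) ^ (d - 1) := by exact_mod_cast h1
  have h2' : (n : ℝ) * (hdim k (CohB1.tensorPow L m) 0 : ℝ) ≤
      (hdim k (CohB1.tensorPow ((Scheme.Modules.pullback f).obj L) m) 0 : ℝ) +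
        (C : ℝ) * ((m : ℝ) + 1) ^ (d - 1) := by exact_mod_cast h2
  exact abs_sub_le_iff.2 ⟨by rw [hdim] at h1'; rw [hdim] at h1'; linarith, by rw [hdim, hdim] at h2'; linarith⟩

/-- A birational map of integral schemes has degree one at the generic point. -/
theorem dominant_degree_one {X Y : Scheme.{u}} [IsIntegral X] [IsIntegral Y] (f : Y ⟶ X)
    (h : RadPt.IsBirational f) : f (genericPoint Y) = genericPoint X ∧ f.residueDegree (genericPoint Y) = 1 := by
  have hmemY : genericPoint Y ∈ genericPoints Y := by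
    show closure {genericPoint Y} ∈ irreducibleComponents Y
    rw [genericPoint_closure, irreducibleComponents_eq_singleton]
    rfl
  have heq : f (genericPoint Y) = genericPoint X := by
    have hm : closure {f (genericPoint Y)} ∈ irreducibleComponents X := h.1.mapsTo hmemY
    rw [irreducibleComponents_eq_singleton] at hm
    exact IsGenericPoint.eq (show IsGenericPoint (f (genericPoint Y)) Set.univ from hm) (genericPoint_spec X)
  refine ⟨heq, ?_⟩
  have hb := (h.2 _ (h.1.mapsTo hmemY)).2 (genericPoint Y) rfl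
  letI := (f.residueFieldMap (genericPoint Y)).hom.toAlgebra
  exact (LinearEquiv.ofBijective (Algebra.linearMap _ (Y.residueField (genericPoint Y))) hb).finrank_eq.symm.trans
    (Module.finrank_self _)

end Groth.Agent.AsympCoh18
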